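import Mathlib

/-!
# Finite groups whose involutions have abelian centralisers: the points

`ACI G`: any two elements commuting with an involution commute.  Commuting is then an equivalence
relation on the involutions; the classes are the *points*, on which `G` acts by conjugation.
-/

set_option autoImplicit false
set_option linter.unusedSectionVars false

namespace Cfsg.Agent.Lib.Coprime.InvAb

open MulAction

universe u

variable {G : Type u} [Group G]

/-- An involution. -/
def Invo (t : G) : Prop := t ≠ 1 ∧ t * t = 1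

theorem Invo.inv_eq {t : G} (h : Invo t) : t⁻¹ = t := by
  rw [inv_eq_iff_mul_eq_one]; exact h.2

theorem Invo.conj {t : G} (h : Invo t) (g : G) : Invo (g * t * g⁻¹) := by
  refine ⟨?_, ?_⟩
  · intro h1
    apply h.1
    have : t = g⁻¹ * (g * t * g⁻¹) * g := by group
    rw [this, h1]; group
  · have : g * t * g⁻¹ * (g * t * g⁻¹) = g * (t * t) * g⁻¹ := by group
    rw [this, h.2]; group

theorem Invo.conj' {t k : G} (h : Invo t) (hk : Invo k) : Invo (k * t * k) := by
  have := h.conj k
  rwa [hk.inv_eq] at this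

theorem invo_of_orderOf {t : G} (h : orderOf t = 2) : Invo t := by
  refine ⟨?_, ?_⟩
  · rintro rfl
    simp at h
  · rw [← pow_two, ← h, pow_orderOf_eq_one]

theorem orderOf_of_invo {t : G} (h : Invo t) : orderOf t = 2 := by
  apply orderOf_eq_prime
  · rw [pow_two, h.2]
  · exact h.1

/-- Abelian involution centralisers. -/
def ACI (G : Type u) [Group G] : Prop :=
  ∀ t a b : G, Invo t → Commute a t → Commute b t → Commute a b

theorem comm_conj {a b : G} (h : Commute a b) (g : G) : Commute (g * a * g⁻¹) (g * b * g⁻¹) := by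
  have h1 : a * b = b * a := h
  show g * a * g⁻¹ * (g * b * g⁻¹) = g * b * g⁻¹ * (g * a * g⁻¹)
  calc g * a * g⁻¹ * (g * b * g⁻¹) = g * (a * b) * g⁻¹ := by group
    _ = g * (b * a) * g⁻¹ := by rw [h1]
    _ = _ := by group

theorem comm_of_comm_conj {a b g : G} (h : Commute (g * a * g⁻¹) (g * b * g⁻¹)) : Commute a b := by
  have := comm_conj h g⁻¹
  have e1 : g⁻¹ * (g * a * g⁻¹) * g⁻¹⁻¹ = a := by group
  have e2 : g⁻¹ * (g * b * g⁻¹) * g⁻¹⁻¹ = b := by group
  rwa [e1, e2] at this

theorem comm_invo {k a b : G} (hk : Invo k) (h : Commute a b) : Commute (k * a * k) (k * b * k) := by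
  have := comm_conj h k
  rwa [hk.inv_eq] at this

theorem ACI.trans (hG : ACI G) {i j l : G} (hj : Invo j) (h1 : Commute i j) (h2 : Commute j l) :
    Commute i l :=
  hG j i l hj h1 h2.symm

/-- If an involution `t` sends the involution `i` to an involution commuting with `i`, then `t`
commutes with `i`. -/
theorem ACI.comm_of_conj (hG : ACI G) {t i : G} (ht : Invo t) (hi : Invo i)
    (h : Commute (t * i * t) i) : Commute t i := by
  by_cases h1 : i * (t * i * t) = 1
  · have h2 : t * i * t = i := by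
      have := eq_inv_of_mul_eq_one_right h1
      rw [this, hi.inv_eq]
    show t * i = i * t
    calc t * i = t * i * t * t := by rw [mul_assoc _ t t, ht.2, mul_one]
      _ = i * t := by rw [h2]
  · -- `l = i * t i t` is an involution commuting with both
    have hl : Invo (i * (t * i * t)) := by
      refine ⟨h1, ?_⟩
      have h3 : (t * i * t) * i = i * (t * i * t) := h
      calc i * (t * i * t) * (i * (t * i * t)) = i * ((t * i * t) * i) * (t * i * t) := by group
        _ = i * (i * (t * i * t)) * (t * i * t) := by rw [h3]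
        _ = (i * i) * ((t * i * t) * (t * i * t)) := by group
        _ = 1 := by
          rw [hi.2, (hi.conj' ht).2, one_mul]
    have h4 : Commute t (i * (t * i * t)) := by
      show t * (i * (t * i * t)) = i * (t * i * t) * t
      have h5 : i * (t * i * t) * t = i * t * i * (t * t) := by group
      rw [h5, ht.2, mul_one]
      have h3 : (t * i * t) * i = i * (t * i * t) := h
      calc t * (i * (t * i * t)) = t * ((t * i * t) * i) := by rw [h3]
        _ = (t * t) * i * (t * i) := by group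
        _ = i * t * i := by rw [ht.2, one_mul]; group
    have h6 : Commute i (i * (t * i * t)) := by
      show i * (i * (t * i * t)) = i * (t * i * t) * i
      have h3 : (t * i * t) * i = i * (t * i * t) := h
      rw [mul_assoc i (t * i * t) i, h3]
    exact hG _ t i hl h4 h6

/-- Commuting, as a setoid on involutions. -/
def simSetoid (hG : ACI G) : Setoid {t : G // Invo t} where
  r a b := Commute a.1 b.1
  iseqv := ⟨fun _ => Commute.refl _, fun h => h.symm, fun {_ b _} h1 h2 => hG.trans b.2 h1 h2⟩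

/-- The points: classes of commuting involutions. -/
def Pt (hG : ACI G) : Type u := Quotient (simSetoid hG)

/-- The point of an involution. -/
def pt (hG : ACI G) (t : G) (ht : Invo t) : Pt hG := Quotient.mk (simSetoid hG) ⟨t, ht⟩

theorem pt_eq_iff (hG : ACI G) {s t : G} (hs : Invo s) (ht : Invo t) :
    pt hG s hs = pt hG t ht ↔ Commute s t := by
  constructor
  · intro h
    exact Quotient.exact h
  · intro h
    exact Quotient.sound h

theorem exists_pt (hG : ACI G) (x : Pt hG) : ∃ (t : G) (ht : Invo t), pt hG t ht = x := by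
  obtain ⟨⟨t, ht⟩, rfl⟩ := Quotient.exists_rep x
  exact ⟨t, ht, rfl⟩

noncomputable instance (hG : ACI G) : MulAction G (Pt hG) where
  smul g := Quotient.map (sa := simSetoid hG) (sb := simSetoid hG)
    (fun t => ⟨g * t.1 * g⁻¹, t.2.conj g⟩)
    (fun _ _ h => comm_conj h g)
  one_smul := by
    intro x
    obtain ⟨⟨t, ht⟩, rfl⟩ := Quotient.exists_rep x
    apply Quotient.sound
    show Commute (1 * t * 1⁻¹) t
    simp
  mul_smul := by
    intro g h x
    obtain ⟨⟨t, ht⟩, rfl⟩ := Quotient.exists_rep x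
    apply Quotient.sound
    show Commute (g * h * t * (g * h)⁻¹) (g * (h * t * h⁻¹) * g⁻¹)
    have : g * h * t * (g * h)⁻¹ = g * (h * t * h⁻¹) * g⁻¹ := by group
    rw [this]

theorem smul_pt (hG : ACI G) (g t : G) (ht : Invo t) :
    g • pt hG t ht = pt hG (g * t * g⁻¹) (ht.conj g) := rfl

theorem smul_pt' (hG : ACI G) {k : G} (hk : Invo k) (t : G) (ht : Invo t) :
    k • pt hG t ht = pt hG (k * t * k) (ht.conj' hk) := by
  rw [smul_pt, pt_eq_iff, hk.inv_eq]

/-- The involutions at a point. -/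
def Ix (hG : ACI G) (x : Pt hG) : Set G := {t | ∃ ht : Invo t, pt hG t ht = x}

theorem mem_Ix (hG : ACI G) {x : Pt hG} {t : G} :
    t ∈ Ix hG x ↔ ∃ ht : Invo t, pt hG t ht = x := Iff.rfl

theorem Ix_invo (hG : ACI G) {x : Pt hG} {t : G} (h : t ∈ Ix hG x) : Invo t := h.1

theorem pt_mem_Ix (hG : ACI G) {t : G} (ht : Invo t) : t ∈ Ix hG (pt hG t ht) := ⟨ht, rfl⟩

theorem exists_mem_Ix (hG : ACI G) (x : Pt hG) : ∃ t, t ∈ Ix hG x := by
  obtain ⟨t, ht, rfl⟩ := exists_pt hG x
  exact ⟨t, pt_mem_Ix hG ht⟩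

theorem Ix_comm (hG : ACI G) {x : Pt hG} {s t : G} (hs : s ∈ Ix hG x) (ht : t ∈ Ix hG x) :
    Commute s t := by
  obtain ⟨h1, h2⟩ := hs
  obtain ⟨h3, h4⟩ := ht
  rw [← pt_eq_iff hG h1 h3, h2, h4]

theorem eq_of_mem_Ix (hG : ACI G) {x y : Pt hG} {t : G} (h1 : t ∈ Ix hG x) (h2 : t ∈ Ix hG y) :
    x = y := by
  obtain ⟨h3, h4⟩ := h1
  obtain ⟨h5, h6⟩ := h2
  rw [← h4, ← h6]

theorem not_comm_of_ne (hG : ACI G) {x y : Pt hG} (hxy : x ≠ y) {s t : G} (hs : s ∈ Ix hG x)
    (ht : t ∈ Ix hG y) : ¬ Commute s t := by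
  intro h
  obtain ⟨h1, h2⟩ := hs
  obtain ⟨h3, h4⟩ := ht
  apply hxy
  rw [← h2, ← h4, pt_eq_iff]
  exact h

theorem mem_Ix_of_comm (hG : ACI G) {x : Pt hG} {s t : G} (hs : s ∈ Ix hG x) (ht : Invo t)
    (h : Commute t s) : t ∈ Ix hG x := by
  obtain ⟨h1, h2⟩ := hs
  refine ⟨ht, ?_⟩
  rw [← h2, pt_eq_iff]
  exact h

theorem conj_mem_Ix (hG : ACI G) {x : Pt hG} {t : G} (h : t ∈ Ix hG x) (g : G) :
    g * t * g⁻¹ ∈ Ix hG (g • x) := by
  obtain ⟨h1, rfl⟩ := h
  exact ⟨h1.conj g, (smul_pt hG g t h1).symm⟩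

theorem conj_mem_Ix' (hG : ACI G) {x : Pt hG} {t k : G} (h : t ∈ Ix hG x) (hk : Invo k) :
    k * t * k ∈ Ix hG (k • x) := by
  have := conj_mem_Ix hG h k
  rwa [hk.inv_eq] at this

theorem smul_eq_of_conj_mem (hG : ACI G) {x y : Pt hG} {t g : G} (h : t ∈ Ix hG x)
    (h2 : g * t * g⁻¹ ∈ Ix hG y) : g • x = y :=
  eq_of_mem_Ix hG (conj_mem_Ix hG h g) h2

/-- The centraliser of the involutions of a point. -/
def FF (hG : ACI G) (x : Pt hG) : Subgroup G where
  carrier := {g | ∀ t ∈ Ix hG x, Commute g t}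
  mul_mem' := fun ha hb t ht => (ha t ht).mul_left (hb t ht)
  one_mem' := fun t _ => Commute.one_left t
  inv_mem' := fun ha t ht => (ha t ht).inv_left

theorem mem_FF (hG : ACI G) {x : Pt hG} {g t : G} (ht : t ∈ Ix hG x) :
    g ∈ FF hG x ↔ Commute g t := by
  constructor
  · intro h
    exact h t ht
  · intro h s hs
    have h1 : Commute t s := Ix_comm hG ht hs
    exact hG t g s (Ix_invo hG ht) h h1.symm

theorem FF_comm (hG : ACI G) {x : Pt hG} {a b : G} (ha : a ∈ FF hG x) (hb : b ∈ FF hG x) :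
    Commute a b := by
  obtain ⟨t, ht⟩ := exists_mem_Ix hG x
  exact hG t a b (Ix_invo hG ht) ((mem_FF hG ht).1 ha) ((mem_FF hG ht).1 hb)

theorem Ix_le_FF (hG : ACI G) {x : Pt hG} {t : G} (ht : t ∈ Ix hG x) : t ∈ FF hG x :=
  fun _ hs => Ix_comm hG ht hs

theorem FF_smul (hG : ACI G) {x : Pt hG} {f : G} (hf : f ∈ FF hG x) : f • x = x := by
  obtain ⟨t, ht⟩ := exists_mem_Ix hG x
  have h1 : f * t * f⁻¹ = t := by
    have : f * t = t * f := (mem_FF hG ht).1 hf
    rw [this]; group
  exact smul_eq_of_conj_mem hG ht (by rw [h1]; exact ht)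

theorem conj_mem_FF (hG : ACI G) {x : Pt hG} {f : G} (hf : f ∈ FF hG x) (g : G) :
    g * f * g⁻¹ ∈ FF hG (g • x) := by
  obtain ⟨t, ht⟩ := exists_mem_Ix hG x
  rw [mem_FF hG (conj_mem_Ix hG ht g)]
  exact comm_conj ((mem_FF hG ht).1 hf) g

theorem conj_mem_FF' (hG : ACI G) {x : Pt hG} {f g : G} (hf : f ∈ FF hG x) (hg : g • x = x) :
    g * f * g⁻¹ ∈ FF hG x := by
  have := conj_mem_FF hG hf g
  rwa [hg] at this

/-- An involution fixing a point is at that point. -/
theorem mem_Ix_of_smul (hG : ACI G) {x : Pt hG} {t : G} (ht : Invo t) (h : t • x = x) :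
    t ∈ Ix hG x := by
  obtain ⟨i, hi⟩ := exists_mem_Ix hG x
  apply mem_Ix_of_comm hG hi ht
  apply hG.comm_of_conj ht (Ix_invo hG hi)
  have h1 : t * i * t ∈ Ix hG x := by
    have := conj_mem_Ix' hG hi ht
    rwa [h] at this
  exact Ix_comm hG h1 hi

/-- No involution fixes two points. -/
theorem not_invo_of_fix (hG : ACI G) {x y : Pt hG} (hxy : x ≠ y) {t : G} (ht : Invo t)
    (h1 : t • x = x) (h2 : t • y = y) : False :=
  hxy (eq_of_mem_Ix hG (mem_Ix_of_smul hG ht h1) (mem_Ix_of_smul hG ht h2))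

theorem smul_smul_invo (hG : ACI G) {k : G} (hk : Invo k) (x : Pt hG) : k • k • x = x := by
  rw [smul_smul, hk.2, one_smul]

theorem swap_symm (hG : ACI G) {k : G} (hk : Invo k) {x y : Pt hG} (h : k • x = y) : k • y = x := by
  rw [← h, smul_smul_invo hG hk]

/-- The involutions interchanging two points. -/
def TT (hG : ACI G) (x y : Pt hG) : Set G := {k | Invo k ∧ k • x = y}

theorem TT_swap (hG : ACI G) {x y : Pt hG} {k : G} (hk : k ∈ TT hG x y) : k • y = x :=
  swap_symm hG hk.1 hk.2

theorem TT_symm (hG : ACI G) {x y : Pt hG} {k : G} (hk : k ∈ TT hG x y) : k ∈ TT hG y x :=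
  ⟨hk.1, TT_swap hG hk⟩

variable [Finite G]

/-- An element of even order has an involution among its powers. -/
theorem exists_invo_pow {d : G} (h : ¬ Odd (orderOf d)) : ∃ n : ℕ, Invo (d ^ n) := by
  have hpos : 0 < orderOf d := orderOf_pos d
  rw [Nat.not_odd_iff_even] at h
  obtain ⟨l, hl⟩ := h
  refine ⟨l, ?_, ?_⟩
  · intro h1
    have := orderOf_le_of_pow_eq_one (by omega) h1
    omega
  · rw [← pow_add, ← hl, pow_orderOf_eq_one]

/-- Elements fixing two points have odd order. -/
theorem odd_of_fix (hG : ACI G) {x y : Pt hG} (hxy : x ≠ y) {d : G} (h1 : d • x = x)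
    (h2 : d • y = y) : Odd (orderOf d) := by
  by_contra h
  obtain ⟨n, hn⟩ := exists_invo_pow h
  have hp : ∀ {z : Pt hG}, d • z = z → d ^ n • z = z := by
    intro z hz
    exact (MulAction.mem_stabilizer_iff.mp
      (Subgroup.pow_mem _ (MulAction.mem_stabilizer_iff.mpr hz) n))
  exact not_invo_of_fix hG hxy hn (hp h1) (hp h2)

/-- **The swap**: two involutions at different points are interchanged by an involution in the
group that they generate. -/
theorem exists_swap_aux (hG : ACI G) {i j : G} (hi : Invo i) (hj : Invo j) (hij : ¬ Commute i j) :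
    ∃ k : G, Invo k ∧ k * i * k = j ∧ ∀ c : G, Commute c i → Commute c j → Commute c k := by
  set g := i * j with hg
  have hinv : g⁻¹ = j * i := by
    rw [hg, mul_inv_rev, hi.inv_eq, hj.inv_eq]
  have hig : i * g * i = g⁻¹ := by
    rw [hinv, hg, ← mul_assoc, hi.2, one_mul]
  have hjg : j * g * j = g⁻¹ := by
    rw [hinv, hg]
    calc j * (i * j) * j = j * i * (j * j) := by group
      _ = j * i := by rw [hj.2, mul_one]
  have hipow : ∀ n : ℕ, i * g ^ n * i = (g ^ n)⁻¹ := by
    intro n
    induction n with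
    | zero => simp [hi.2]
    | succ n ih =>
      calc i * g ^ (n + 1) * i = (i * g ^ n * i) * (i * g * i) := by
            rw [pow_succ]
            calc i * (g ^ n * g) * i = i * g ^ n * 1 * g * i := by group
              _ = i * g ^ n * (i * i) * g * i := by rw [hi.2]
              _ = _ := by group
        _ = (g ^ n)⁻¹ * g⁻¹ := by rw [ih, hig]
        _ = (g ^ (n + 1))⁻¹ := by
            rw [pow_succ']
            exact (mul_inv_rev g (g ^ n)).symm
  have hjpow : ∀ n : ℕ, j * g ^ n * j = (g ^ n)⁻¹ := by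
    intro n
    induction n with
    | zero => simp [hj.2]
    | succ n ih =>
      calc j * g ^ (n + 1) * j = (j * g ^ n * j) * (j * g * j) := by
            rw [pow_succ]
            calc j * (g ^ n * g) * j = j * g ^ n * 1 * g * j := by group
              _ = j * g ^ n * (j * j) * g * j := by rw [hj.2]
              _ = _ := by group
        _ = (g ^ n)⁻¹ * g⁻¹ := by rw [ih, hjg]
        _ = (g ^ (n + 1))⁻¹ := by
            rw [pow_succ']
            exact (mul_inv_rev g (g ^ n)).symm
  have hodd : Odd (orderOf g) := by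
    by_contra h
    obtain ⟨n, hn⟩ := exists_invo_pow h
    have h1 : Commute i (g ^ n) := by
      have h2 := hipow n
      rw [hn.inv_eq] at h2
      show i * g ^ n = g ^ n * i
      calc i * g ^ n = i * g ^ n * (i * i) := by rw [hi.2, mul_one]
        _ = (i * g ^ n * i) * i := by group
        _ = g ^ n * i := by rw [h2]
    have h3 : Commute j (g ^ n) := by
      have h2 := hjpow n
      rw [hn.inv_eq] at h2
      show j * g ^ n = g ^ n * j
      calc j * g ^ n = j * g ^ n * (j * j) := by rw [hj.2, mul_one]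
        _ = (j * g ^ n * j) * j := by group
        _ = g ^ n * j := by rw [h2]
    exact hij (hG _ i j hn h1 h3)
  obtain ⟨l, hl⟩ := hodd
  have hgm : g ^ (2 * l + 1) = 1 := by rw [← hl, pow_orderOf_eq_one]
  have hk2 : g ^ l * i * (g ^ l * i) = 1 := by
    calc g ^ l * i * (g ^ l * i) = g ^ l * (i * g ^ l * i) := by group
      _ = 1 := by rw [hipow]; group
  have hk1 : g ^ l * i ≠ 1 := by
    intro h
    have h1 : i = (g ^ l)⁻¹ := eq_inv_of_mul_eq_one_right h
    -- `i` has odd order
    have h2 : i ^ (2 * l + 1) = 1 := by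
      rw [h1, inv_pow, ← pow_mul, mul_comm, pow_mul, hgm, one_pow, inv_one]
    have h3 : i ^ (2 * l) = 1 := by
      rw [pow_mul, pow_two, hi.2, one_pow]
    rw [pow_succ, h3, one_mul] at h2
    exact hi.1 h2
  refine ⟨g ^ l * i, ⟨hk1, hk2⟩, ?_, ?_⟩
  · -- `k i k = j`
    have h1 : g ^ (2 * l) = g⁻¹ := by
      rw [eq_inv_iff_mul_eq_one, ← pow_succ]
      exact hgm
    have h2 : i * g ^ l * i = (g ^ l)⁻¹ := hipow l
    calc g ^ l * i * i * (g ^ l * i) = g ^ l * (i * i) * g ^ l * i := by group
      _ = g ^ l * g ^ l * i := by rw [hi.2, mul_one]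
      _ = g ^ (2 * l) * i := by rw [two_mul, pow_add]
      _ = g⁻¹ * i := by rw [h1]
      _ = j := by rw [hinv, mul_assoc, hi.2, mul_one]
  · intro c h1 h2
    have h3 : Commute c g := h1.mul_right h2
    exact (h3.pow_right l).mul_right h1

/-- The swap, in terms of points. -/
theorem exists_swap (hG : ACI G) {x y : Pt hG} (hxy : x ≠ y) {i j : G} (hi : i ∈ Ix hG x)
    (hj : j ∈ Ix hG y) :
    ∃ k : G, Invo k ∧ k • x = y ∧ k * i * k = j ∧
      ∀ c : G, Commute c i → Commute c j → Commute c k := by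
  obtain ⟨k, hk, hk1, hk2⟩ := exists_swap_aux hG (Ix_invo hG hi) (Ix_invo hG hj)
    (not_comm_of_ne hG hxy hi hj)
  refine ⟨k, hk, ?_, hk1, hk2⟩
  have h1 := conj_mem_Ix' hG hi hk
  rw [hk1] at h1
  exact eq_of_mem_Ix hG h1 hj

/-- The action on points is transitive. -/
instance (hG : ACI G) : MulAction.IsPretransitive G (Pt hG) where
  exists_smul_eq := by
    intro x y
    by_cases hxy : x = y
    · exact ⟨1, by rw [hxy, one_smul]⟩
    · obtain ⟨i, hi⟩ := exists_mem_Ix hG x
      obtain ⟨j, hj⟩ := exists_mem_Ix hG y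
      obtain ⟨k, -, hk, -⟩ := exists_swap hG hxy hi hj
      exact ⟨k, hk⟩

/-- **Uniqueness of the swap**. -/
theorem swap_unique (hG : ACI G) {x y : Pt hG} (hxy : x ≠ y) {k k' i : G} (hk : k ∈ TT hG x y)
    (hk' : k' ∈ TT hG x y) (hi : i ∈ Ix hG x) (h : k * i * k = k' * i * k') : k = k' := by
  have hkI := hk.1
  have hkI' := hk'.1
  set j := k * i * k with hj
  have hjy : j ∈ Ix hG y := by
    have := conj_mem_Ix' hG hi hkI
    rwa [hk.2] at this
  set b := k * k' with hb
  -- `b` commutes with `i` and `j`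
  have e1 : k * j * k = i := by
    rw [hj]
    calc k * (k * i * k) * k = (k * k) * i * (k * k) := by group
      _ = i := by rw [hkI.2]; group
  have e2 : k' * j * k' = i := by
    rw [h]
    calc k' * (k' * i * k') * k' = (k' * k') * i * (k' * k') := by group
      _ = i := by rw [hkI'.2]; group
  have hbinv : b⁻¹ = k' * k := by
    rw [hb, mul_inv_rev, hkI.inv_eq, hkI'.inv_eq]
  have hci : Commute b i := by
    show k * k' * i = i * (k * k')
    calc k * k' * i = k * (k' * i * k') * k' := by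
          calc k * k' * i = k * k' * i * 1 := by group
            _ = k * k' * i * (k' * k') := by rw [hkI'.2]
            _ = _ := by group
      _ = k * j * k' := by rw [← h]
      _ = (k * j * k) * (k * k') := by
          calc k * j * k' = k * j * 1 * k' := by group
            _ = k * j * (k * k) * k' := by rw [hkI.2]
            _ = _ := by group
      _ = i * (k * k') := by rw [e1]
  have hcj : Commute b j := by
    show k * k' * j = j * (k * k')
    calc k * k' * j = k * (k' * j * k') * k' := by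
          calc k * k' * j = k * k' * j * 1 := by group
            _ = k * k' * j * (k' * k') := by rw [hkI'.2]
            _ = _ := by group
      _ = k * i * k' := by rw [e2]
      _ = (k * i * k) * (k * k') := by
          calc k * i * k' = k * i * 1 * k' := by group
            _ = k * i * (k * k) * k' := by rw [hkI.2]
            _ = _ := by group
      _ = j * (k * k') := rfl
  -- a swap commuting with `b`
  obtain ⟨k₀, hk₀, hk₀x, hk₀1, hk₀2⟩ := exists_swap hG hxy hi hjy
  have hk₀b : Commute b k₀ := hk₀2 b hci hcj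
  set e := k₀ * k with he
  have hex : e • x = x := by
    rw [he, mul_smul, hk.2, swap_symm hG hk₀ hk₀x]
  have hey : e • y = y := by
    rw [he, mul_smul, TT_swap hG hk, hk₀x]
  have hodd : Odd (orderOf e) := odd_of_fix hG hxy hex hey
  have hkb : k * b * k = b⁻¹ := by
    rw [hbinv, hb]
    calc k * (k * k') * k = (k * k) * k' * k := by group
      _ = k' * k := by rw [hkI.2, one_mul]
  have heb : e * b * e⁻¹ = b⁻¹ := by
    have h1 : e⁻¹ = k * k₀ := by
      rw [he, mul_inv_rev, hkI.inv_eq, hk₀.inv_eq]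
    rw [h1, he]
    calc k₀ * k * b * (k * k₀) = k₀ * (k * b * k) * k₀ := by group
      _ = k₀ * b⁻¹ * k₀ := by rw [hkb]
      _ = b⁻¹ * k₀ * k₀ := by
          rw [((hk₀b.inv_left).eq).symm]
      _ = b⁻¹ := by rw [mul_assoc, hk₀.2, mul_one]
  -- `e` of odd order inverts `b`
  have hpow : ∀ n : ℕ, e ^ (2 * n) * b * (e ^ (2 * n))⁻¹ = b := by
    intro n
    induction n with
    | zero => simp
    | succ n ih =>
      have h2 : e ^ (2 * (n + 1)) = e * e * e ^ (2 * n) := by
        rw [mul_add, pow_add, mul_one, pow_two, ← mul_assoc]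
        have : e ^ (2 * n) * (e * e) = (e * e) * e ^ (2 * n) := by
          rw [← pow_two, ← pow_add, ← pow_add, add_comm]
        rw [mul_assoc, this]
      rw [h2]
      calc e * e * e ^ (2 * n) * b * (e * e * e ^ (2 * n))⁻¹
          = e * (e * (e ^ (2 * n) * b * (e ^ (2 * n))⁻¹) * e⁻¹) * e⁻¹ := by group
        _ = e * (e * b * e⁻¹) * e⁻¹ := by rw [ih]
        _ = e * b⁻¹ * e⁻¹ := by rw [heb]
        _ = (e * b * e⁻¹)⁻¹ := by group
        _ = b := by rw [heb, inv_inv]
  obtain ⟨l, hl⟩ := hodd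
  have h3 : e ^ (2 * l + 1) = 1 := by rw [← hl, pow_orderOf_eq_one]
  have h4 : e⁻¹ = e ^ (2 * l) := by
    rw [inv_eq_iff_mul_eq_one, ← pow_succ']
    exact h3
  have h7 : e⁻¹ * b * e = b := by
    have := hpow l
    rw [← h4] at this
    simpa using this
  have h5 : b⁻¹ = b := by
    rw [← heb]
    calc e * b * e⁻¹ = e * (e⁻¹ * b * e) * e⁻¹ := by rw [h7]
      _ = b := by group
  -- `b` has odd order as well
  have hbx : b • x = x := by
    rw [hb, mul_smul, hk'.2, TT_swap hG hk]
  have hby : b • y = y := by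
    rw [hb, mul_smul, TT_swap hG hk', hk.2]
  have hb2 : b * b = 1 := mul_eq_one_iff_eq_inv.mpr h5.symm
  by_contra hne
  have hb1 : b ≠ 1 := by
    intro h1
    apply hne
    have h2 : k' = k⁻¹ := eq_inv_of_mul_eq_one_right h1
    rw [h2, hkI.inv_eq]
  exact not_invo_of_fix hG hxy ⟨hb1, hb2⟩ hbx hby

/-- A swap commutes with what the two involutions commute with. -/
theorem comm_swap (hG : ACI G) {x y : Pt hG} (hxy : x ≠ y) {k i c : G} (hk : k ∈ TT hG x y)
    (hi : i ∈ Ix hG x) (h1 : Commute c i) (h2 : Commute c (k * i * k)) : Commute c k := by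
  have hjy : k * i * k ∈ Ix hG y := by
    have := conj_mem_Ix' hG hi hk.1
    rwa [hk.2] at this
  obtain ⟨k₀, hk₀, hk₀x, hk₀1, hk₀2⟩ := exists_swap hG hxy hi hjy
  have : k = k₀ := swap_unique hG hxy hk ⟨hk₀, hk₀x⟩ hi hk₀1.symm
  rw [this]
  exact hk₀2 c h1 h2

end Cfsg.Agent.Lib.Coprime.InvAb
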