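import Cfsg.Agent.Lib.Coprime.InvAb.TrivMain

/-!
# Abelian involution centralisers: quotient by a central subgroup of odd order
-/

set_option autoImplicit false
set_option linter.unusedSectionVars false

namespace Cfsg.Agent.Lib.Coprime.InvAb

noncomputable section

open MulAction

universe u

variable {W : Type u} [Group W] [Finite W] (Z : Subgroup W) [Z.Normal]

/-- An element of a subgroup of odd order whose square is trivial is trivial. -/
theorem eq_one_of_sq_odd (hZodd : Odd (Nat.card Z)) {z : W} (hz : z ∈ Z) (h2 : z * z = 1) : z = 1 := by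
  by_contra h
  have h1 : orderOf z = 2 := orderOf_of_invo ⟨h, h2⟩
  have h3 := Subgroup.orderOf_dvd_natCard Z hz
  rw [h1] at h3
  exact (Nat.not_even_iff_odd.mpr hZodd) (even_iff_two_dvd.mpr h3)

theorem invo_map {t : W} (ht : Invo t) (htZ : t ∉ Z) : Invo (QuotientGroup.mk' Z t) := by
  refine ⟨?_, ?_⟩
  · intro h
    exact htZ ((QuotientGroup.eq_one_iff t).1 h)
  · rw [← map_mul, ht.2, map_one]

theorem not_mem_of_invo (hZodd : Odd (Nat.card Z)) {t : W} (ht : Invo t) : t ∉ Z := fun h =>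
  ht.1 (eq_one_of_sq_odd Z hZodd h ht.2)

/-- Involutions of the quotient lift. -/
theorem lift_invo (hZodd : Odd (Nat.card Z)) {t : W ⧸ Z} (ht : Invo t) :
    ∃ s : W, Invo s ∧ QuotientGroup.mk' Z s = t := by
  obtain ⟨s₀, rfl⟩ := QuotientGroup.mk'_surjective Z t
  obtain ⟨l, hl⟩ := hZodd
  set π := QuotientGroup.mk' Z with hπ
  have h1 : s₀ * s₀ ∈ Z := by
    rw [← QuotientGroup.eq_one_iff]
    exact ht.2
  have h2 : π (s₀ ^ (2 * l + 1)) = π s₀ := by
    rw [map_pow, pow_succ, pow_mul, pow_two, ht.2, one_pow, one_mul]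
  refine ⟨s₀ ^ (2 * l + 1), ⟨?_, ?_⟩, h2⟩
  · intro h
    rw [h, map_one] at h2
    exact ht.1 h2.symm
  · have h3 : (s₀ * s₀) ^ Nat.card Z = 1 :=
      orderOf_dvd_iff_pow_eq_one.mp (Subgroup.orderOf_dvd_natCard Z h1)
    rw [hl] at h3
    rw [← pow_add]
    have h4 : 2 * l + 1 + (2 * l + 1) = 2 * (2 * l + 1) := by ring
    rw [h4, pow_mul, pow_two]
    exact h3

/-- Commuting with an involution lifts. -/
theorem lift_comm (hZc : ∀ z ∈ Z, ∀ w : W, Commute z w) (hZodd : Odd (Nat.card Z)) {g i : W}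
    (hi : Invo i) (h : Commute (QuotientGroup.mk' Z g) (QuotientGroup.mk' Z i)) : Commute g i := by
  set z := g * i * g⁻¹ * i⁻¹ with hz
  have hzZ : z ∈ Z := by
    rw [← QuotientGroup.eq_one_iff]
    show QuotientGroup.mk' Z _ = 1
    rw [hz, map_mul, map_mul, map_mul, map_inv, map_inv]
    have h1 : QuotientGroup.mk' Z g * QuotientGroup.mk' Z i
        = QuotientGroup.mk' Z i * QuotientGroup.mk' Z g := h
    rw [h1]
    group
  have h2 : g * i * g⁻¹ = z * i := by rw [hz]; group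
  have h3 : (g * i * g⁻¹) * (g * i * g⁻¹) = 1 := (hi.conj g).2
  rw [h2] at h3
  have h4 : z * z = 1 := by
    have h5 : Commute z i := hZc z hzZ i
    calc z * z = z * z * (i * i) := by rw [hi.2, mul_one]
      _ = z * (z * i) * i := by group
      _ = z * (i * z) * i := by rw [(h5 : z * i = i * z)]
      _ = z * i * (z * i) := by group
      _ = 1 := h3
  have h6 := eq_one_of_sq_odd Z hZodd hzZ h4
  rw [h6, one_mul] at h2
  show g * i = i * g
  calc g * i = g * i * g⁻¹ * g := by group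
    _ = i * g := by rw [h2]

/-- The quotient has abelian involution centralisers. -/
theorem aci_quot (hW : ACI W) (hZc : ∀ z ∈ Z, ∀ w : W, Commute z w) (hZodd : Odd (Nat.card Z)) :
    ACI (W ⧸ Z) := by
  intro t a b ht ha hb
  obtain ⟨s, hs, rfl⟩ := lift_invo Z hZodd ht
  obtain ⟨a, rfl⟩ := QuotientGroup.mk'_surjective Z a
  obtain ⟨b, rfl⟩ := QuotientGroup.mk'_surjective Z b
  have h1 := lift_comm Z hZc hZodd hs ha
  have h2 := lift_comm Z hZc hZodd hs hb
  exact (hW s a b hs h1 h2).map _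

/-- The triviality condition in the quotient. -/
theorem qTriv_quot (hZc : ∀ z ∈ Z, ∀ w : W, Commute z w) (hZodd : Odd (Nat.card Z))
    (hQ : ∀ i j g : W, Invo i → Invo j → ¬ Commute i j → Commute g i → Commute (g * j * g⁻¹) j →
      g ∈ Z) : QTriv' (W ⧸ Z) := by
  intro i j g hi hj hij hgi hgj
  obtain ⟨i', hi', rfl⟩ := lift_invo Z hZodd hi
  obtain ⟨j', hj', rfl⟩ := lift_invo Z hZodd hj
  obtain ⟨g, rfl⟩ := QuotientGroup.mk'_surjective Z g
  have h1 : ¬ Commute i' j' := fun h => hij (h.map _)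
  have h2 := lift_comm Z hZc hZodd hi' hgi
  have h3 : Commute (g * j' * g⁻¹) j' := by
    apply lift_comm Z hZc hZodd hj'
    rw [map_mul, map_mul, map_inv]
    exact hgj
  exact (QuotientGroup.eq_one_iff g).2 (hQ i' j' g hi' hj' h1 h2 h3)

/-- **The quotient by a central subgroup controlling `C(x) ∩ G_y`.** -/
theorem quot_main (hW : ACI W) (hZc : ∀ z ∈ Z, ∀ w : W, Commute z w) (hZodd : Odd (Nat.card Z))
    (hQ : ∀ i j g : W, Invo i → Invo j → ¬ Commute i j → Commute g i → Commute (g * j * g⁻¹) j →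
      g ∈ Z) {a b : W} (ha : Invo a) (hb : Invo b) (hab : ¬ Commute a b) {s t : W} (hs : Invo s)
    (ht : Invo t) (hst : s ≠ t) (hc : Commute s t) :
    (∀ i g : W, Invo i → Commute g i → Odd (orderOf g) → g ∈ Z) ∧
    (∀ R : Subgroup W, (∀ r ∈ R, ¬ Invo r) →
      ¬ ∀ s t : W, Invo s → Invo t → ∃ r ∈ R, r * s * r⁻¹ = t) ∧
    commutator (W ⧸ Z) = ⊤ ∧
    ∃ (F : Type) (_ : Field F) (_ : Fintype F), CharP F 2 ∧ 4 ≤ Fintype.card F ∧
      Nonempty ((W ⧸ Z) ≃* Matrix.SpecialLinearGroup (Fin 2) F) := by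
  have hA := aci_quot Z hW hZc hZodd
  have hQ' := qTriv_quot Z hZc hZodd hQ
  set π := QuotientGroup.mk' Z with hπ
  have hI : ∀ {t : W}, Invo t → Invo (π t) := fun {t} ht =>
    invo_map Z ht (not_mem_of_invo Z hZodd ht)
  have hab' : ¬ Commute (π a) (π b) := fun h => hab (lift_comm Z hZc hZodd hb h)
  have hst' : π s ≠ π t := by
    intro h
    -- `s t` would be an involution in `Z`
    apply hst
    have h1 : s * t ∈ Z := by
      rw [← QuotientGroup.eq_one_iff]
      show π (s * t) = 1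
      rw [map_mul, h, (hI ht).2]
    have h2 : s * t * (s * t) = 1 := by
      calc s * t * (s * t) = s * (t * s) * t := by group
        _ = s * (s * t) * t := by rw [(hc : s * t = t * s)]
        _ = (s * s) * (t * t) := by group
        _ = 1 := by rw [hs.2, ht.2, one_mul]
    have h3 := eq_one_of_sq_odd Z hZodd h1 h2
    have h4 : s = t⁻¹ := eq_inv_of_mul_eq_one_left h3
    rw [h4, ht.inv_eq]
  obtain ⟨h1, h2, h3, h4⟩ := triv_main hA hQ' (hI ha) (hI hb) hab' (hI hs) (hI ht) hst' (hc.map _)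
  refine ⟨?_, ?_, h3, h4⟩
  · intro i g hi hg hodd
    rcases h1 (π i) (π g) (hI hi) (hg.map _) with h | h
    · exact (QuotientGroup.eq_one_iff g).1 h
    · exfalso
      have h5 : orderOf (π g) ∣ orderOf g := orderOf_map_dvd _ _
      rw [orderOf_of_invo h] at h5
      exact (Nat.not_even_iff_odd.mpr hodd) (even_iff_two_dvd.mpr h5)
  · intro R hR htr
    apply h2 (R.map π)
    · rintro _ ⟨r, hr, rfl⟩ h
      have hodd : Odd (orderOf r) := by
        by_contra h5
        obtain ⟨n, hn⟩ := exists_invo_pow h5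
        exact hR _ (Subgroup.pow_mem _ hr n) hn
      have h5 : orderOf (π r) ∣ orderOf r := orderOf_map_dvd _ _
      rw [orderOf_of_invo h] at h5
      exact (Nat.not_even_iff_odd.mpr hodd) (even_iff_two_dvd.mpr h5)
    · intro s' t' hs' ht'
      obtain ⟨s₁, hs₁, rfl⟩ := lift_invo Z hZodd hs'
      obtain ⟨t₁, ht₁, rfl⟩ := lift_invo Z hZodd ht'
      obtain ⟨r, hr, h⟩ := htr s₁ t₁ hs₁ ht₁
      refine ⟨π r, ⟨r, hr, rfl⟩, ?_⟩
      rw [← h, map_mul, map_mul, map_inv]

end

end Cfsg.Agent.Lib.Coprime.InvAb
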