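import Cfsg.Agent.Lib.Coprime.InvAb.Descent
import Cfsg.Agent.Lib.PSL2.MemberCyc

/-!
# Central extensions of `SL(2, F)`, `F` of characteristic two, by groups of odd order split

A `p`-subgroup of `SL(2, F)`, `p` odd, is cyclic; so a Sylow `p`-subgroup of a central extension is
abelian, and the transfer shows that `Z ∩ G' ` has trivial `p`-part.
-/

set_option autoImplicit false
set_option linter.unusedSectionVars false
set_option linter.style.haveILetI false

namespace Cfsg.Agent.Lib.Coprime.InvAb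

noncomputable section

universe u

section SL

open Matrix Matrix.SpecialLinearGroup Cfsg.Agent.Lib.PSL2.Basic Cfsg.Agent.Lib.PSL2.Members
open scoped MatrixGroups

variable {F : Type*} [Field F] [Fintype F] [CharP F 2]

theorem neg_one_eq_one : (-1 : SL(2, F)) = 1 := by
  apply ext2 <;> simp [CharTwo.neg_eq]

/-- An element of trace zero has square one. -/
theorem sq_eq_one_of_tr (A : SL(2, F)) (h : tr A = 0) : A * A = 1 := by
  have h2 : (2 : F) = 0 := by exact_mod_cast CharP.cast_eq_zero F 2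
  have hd := det_entries A
  have h0 : A.1 1 1 = - A.1 0 0 := by
    have : A.1 0 0 + A.1 1 1 = 0 := h
    linear_combination this
  rw [h0] at hd
  apply ext2
  · rw [mul_00, one_00]
    linear_combination -hd - h2
  · rw [mul_01, one_01, h0]
    ring
  · rw [mul_10, one_10, h0]
    ring
  · rw [mul_11, one_11, h0]
    linear_combination -hd - h2

/-- **A `p`-subgroup of `SL(2, F)`, `p` odd, is cyclic.** -/
theorem sl2_pgroup_cyclic {p : ℕ} [Fact p.Prime] (hp : p ≠ 2) (Q : Subgroup SL(2, F))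
    (hQ : IsPGroup p Q) : IsCyclic Q := by
  classical
  by_cases hQ1 : Nontrivial Q
  · have hcent := hQ.center_nontrivial
    obtain ⟨a, ha⟩ := exists_ne (1 : Subgroup.center Q)
    have ha1 : ((a : Q) : SL(2, F)) ≠ 1 := by
      intro h
      apply ha
      apply Subtype.ext
      apply Subtype.ext
      exact h
    set A : SL(2, F) := ((a : Q) : SL(2, F)) with hA
    have hNC : NC A := ⟨ha1, by rw [neg_one_eq_one]; exact ha1⟩
    have hdisc : disc A ≠ 0 := by
      have h4 : (4 : F) = 0 := by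
        have h2 : (2 : F) = 0 := by exact_mod_cast CharP.cast_eq_zero F 2
        calc (4 : F) = 2 * 2 := by norm_num
          _ = 0 := by rw [h2, mul_zero]
      unfold disc
      rw [h4, sub_zero]
      intro h5
      have h6 : tr A = 0 := by simpa using h5
      have h7 := sq_eq_one_of_tr A h6
      -- `A` has order a power of `p`
      have h8 : A ^ 2 = 1 := by rw [pow_two, h7]
      obtain ⟨n, hn⟩ := (hQ (a : Q))
      have h9 : A ^ p ^ n = 1 := by
        have := congrArg Subtype.val hn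
        simpa using this
      have hc : Nat.Coprime 2 (p ^ n) := by
        apply Nat.Coprime.pow_right
        exact (Nat.coprime_primes Nat.prime_two Fact.out).2 (Ne.symm hp)
      apply ha1
      have h10 := orderOf_dvd_of_pow_eq_one h8
      have h11 := orderOf_dvd_of_pow_eq_one h9
      have h12 : orderOf A = 1 := Nat.eq_one_of_dvd_coprimes hc h10 h11
      exact orderOf_eq_one_iff.mp h12
    obtain ⟨T, -, hcyc, -, hT⟩ := Cfsg.Agent.Lib.PSL2.MemberCyc.centralizer_eq_torus hNC hdisc
    have hle : Q ≤ T := by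
      intro g hg
      rw [← hT, Subgroup.mem_centralizer_singleton_iff]
      have h1 := (Subgroup.mem_center_iff.1 a.2) ⟨g, hg⟩
      have h2 : g * A = A * g := congrArg Subtype.val h1
      exact h2
    exact isCyclic_of_injective (Subgroup.inclusion hle) (Subgroup.inclusion_injective hle)
  · rw [not_nontrivial_iff_subsingleton] at hQ1
    infer_instance

end SL

variable {G : Type u} [Group G] [Finite G]

open scoped IsMulCommutative in
/-- Transfer: a central element in the commutator group and an abelian subgroup. -/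
theorem central_comm_pow (P : Subgroup G) [IsMulCommutative P] {z : G}
    (hz : z ∈ Subgroup.center G) (hzc : z ∈ commutator G) : z ^ P.index = 1 := by
  have key : ∀ (k : ℕ) (g₀ : G), g₀⁻¹ * z ^ k * g₀ ∈ P → g₀⁻¹ * z ^ k * g₀ = z ^ k := by
    intro k g₀ _
    have h1 : z ^ k ∈ Subgroup.center G := Subgroup.pow_mem _ hz k
    have h2 : z ^ k * g₀ = g₀ * z ^ k := (Subgroup.mem_center_iff.1 h1 g₀).symm
    rw [mul_assoc, h2]
    group
  have h1 := MonoidHom.transfer_eq_pow (MonoidHom.id P) z key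
  have h2 := Abelianization.commutator_subset_ker (MonoidHom.transfer (MonoidHom.id P)) hzc
  rw [MonoidHom.mem_ker, h1] at h2
  exact congrArg Subtype.val h2

/-- **The splitting.** -/
theorem lift_direct (Z : Subgroup G) [Z.Normal] (hZc : ∀ z ∈ Z, ∀ w : G, Commute z w)
    (hZodd : Odd (Nat.card Z)) (hperf : commutator (G ⧸ Z) = ⊤) {F : Type} [Field F] [Fintype F]
    [CharP F 2] (e : (G ⧸ Z) ≃* Matrix.SpecialLinearGroup (Fin 2) F) :
    ∃ (A : Type) (_ : CommGroup A) (_ : Finite A), Odd (Nat.card A) ∧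
      Nonempty (G ≃* Matrix.SpecialLinearGroup (Fin 2) F × A) := by
  classical
  set π := QuotientGroup.mk' Z with hπ
  set C := commutator G with hC
  have hπsurj : Function.Surjective π := QuotientGroup.mk'_surjective Z
  -- `π C = G/Z`
  have hπC : C.map π = ⊤ := by
    rw [hC, commutator_def, Subgroup.map_commutator, Subgroup.map_top_of_surjective _ hπsurj,
      ← commutator_def, hperf]
  have hdec : ∀ g : G, ∃ c ∈ C, ∃ z ∈ Z, g = c * z := by
    intro g
    have h1 : π g ∈ C.map π := by rw [hπC]; exact Subgroup.mem_top _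
    obtain ⟨c, hc, h2⟩ := h1
    refine ⟨c, hc, c⁻¹ * g, ?_, by group⟩
    rw [← QuotientGroup.eq_one_iff]
    show π _ = 1
    rw [map_mul, map_inv, h2]
    group
  -- `C` is perfect
  have hCperf : commutator C = ⊤ := by
    rw [eq_top_iff]
    have h1 : C ≤ (commutator C).map C.subtype := by
      rw [hC, commutator_def, Subgroup.commutator_le]
      intro a _ b _
      obtain ⟨c₁, hc₁, z₁, hz₁, rfl⟩ := hdec a
      obtain ⟨c₂, hc₂, z₂, hz₂, rfl⟩ := hdec b
      have hc : ∀ w : G, z₁ * w * z₁⁻¹ = w := by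
        intro w
        rw [(hZc z₁ hz₁ w : z₁ * w = w * z₁)]
        group
      have hd : z₂ * c₁⁻¹ * z₂⁻¹ = c₁⁻¹ := by
        rw [(hZc z₂ hz₂ c₁⁻¹ : z₂ * c₁⁻¹ = c₁⁻¹ * z₂), mul_inv_cancel_right]
      have h2 : (c₁ * z₁) * (c₂ * z₂) * (c₁ * z₁)⁻¹ * (c₂ * z₂)⁻¹ = c₁ * c₂ * c₁⁻¹ * c₂⁻¹ := by
        calc (c₁ * z₁) * (c₂ * z₂) * (c₁ * z₁)⁻¹ * (c₂ * z₂)⁻¹
            = c₁ * (z₁ * (c₂ * z₂) * z₁⁻¹) * c₁⁻¹ * (c₂ * z₂)⁻¹ := by group
          _ = c₁ * (c₂ * z₂) * c₁⁻¹ * (c₂ * z₂)⁻¹ := by rw [hc]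
          _ = c₁ * c₂ * (z₂ * c₁⁻¹ * z₂⁻¹) * c₂⁻¹ := by group
          _ = _ := by rw [hd]
      change (c₁ * z₁) * (c₂ * z₂) * (c₁ * z₁)⁻¹ * (c₂ * z₂)⁻¹ ∈ _
      rw [h2]
      refine ⟨⟨c₁, hc₁⟩ * ⟨c₂, hc₂⟩ * ⟨c₁, hc₁⟩⁻¹ * ⟨c₂, hc₂⟩⁻¹, ?_, rfl⟩
      exact Subgroup.commutator_mem_commutator (Subgroup.mem_top _) (Subgroup.mem_top _)
    intro x _
    obtain ⟨y, hy, hyx⟩ := h1 x.2
    have : y = x := Subtype.ext hyx
    rwa [← this]
  -- `C ∩ Z = 1`
  have hCZ : ∀ z ∈ C, z ∈ Z → z = 1 := by
    by_contra hcon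
    push Not at hcon
    obtain ⟨z₀, hz₀C, hz₀Z, hz₀1⟩ := hcon
    -- an element of prime order
    obtain ⟨p, hp, hpd⟩ := Nat.exists_prime_and_dvd (orderOf_eq_one_iff.not.mpr hz₀1)
    haveI : Fact p.Prime := ⟨hp⟩
    obtain ⟨m, hm⟩ := hpd
    have hpos : 0 < orderOf z₀ := orderOf_pos z₀
    have hm0 : 0 < m := by
      rcases Nat.eq_zero_or_pos m with h | h
      · rw [h, mul_zero] at hm
        omega
      · exact h
    set z := z₀ ^ m with hz
    have hzp : orderOf z = p := by
      rw [hz, orderOf_pow_of_dvd (Nat.ne_of_gt hm0) ⟨p, by rw [hm]; ring⟩, hm]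
      exact Nat.mul_div_cancel _ hm0
    have hzC : z ∈ C := Subgroup.pow_mem _ hz₀C m
    have hzZ : z ∈ Z := Subgroup.pow_mem _ hz₀Z m
    have hp2 : p ≠ 2 := by
      rintro rfl
      have h3 := Subgroup.orderOf_dvd_natCard Z hzZ
      rw [hzp] at h3
      exact (Nat.not_even_iff_odd.mpr hZodd) (even_iff_two_dvd.mpr h3)
    let z' : C := ⟨z, hzC⟩
    have hz'c : z' ∈ Subgroup.center C := by
      rw [Subgroup.mem_center_iff]
      intro g
      apply Subtype.ext
      exact (hZc z hzZ g.1).symm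
    have hz'top : z' ∈ commutator C := by rw [hCperf]; exact Subgroup.mem_top _
    have hz'ord : orderOf z' = p := by
      rw [← hzp]
      exact Subgroup.orderOf_mk z hzC
    -- a Sylow `p`-subgroup of `C` containing `z'`
    have hpg : IsPGroup p (Subgroup.zpowers z') := by
      rw [IsPGroup.iff_card]
      exact ⟨1, by rw [Nat.card_zpowers, hz'ord, pow_one]⟩
    obtain ⟨P, hP⟩ := hpg.exists_le_sylow
    -- `P` is abelian
    let φ : C →* Matrix.SpecialLinearGroup (Fin 2) F :=
      (e.toMonoidHom.comp π).comp C.subtype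
    let Q : Subgroup (Matrix.SpecialLinearGroup (Fin 2) F) := (P : Subgroup C).map φ
    have hQ : IsPGroup p Q := P.2.map φ
    haveI hQc : IsCyclic Q := sl2_pgroup_cyclic hp2 Q hQ
    let f : (P : Subgroup C) →* Q := φ.subgroupMap (P : Subgroup C)
    have hf : f.ker ≤ Subgroup.center (P : Subgroup C) := by
      intro u hu
      rw [Subgroup.mem_center_iff]
      intro v
      have h1 : φ (u : C) = 1 := by
        have := congrArg Subtype.val (MonoidHom.mem_ker.1 hu)
        exact this
      have h2 : π ((u : C) : G) = 1 := by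
        have h3 : e (π ((u : C) : G)) = 1 := h1
        have h4 := congrArg e.symm h3
        simpa using h4
      have h3 : ((u : C) : G) ∈ Z := (QuotientGroup.eq_one_iff _).1 h2
      apply Subtype.ext
      apply Subtype.ext
      exact (hZc _ h3 _).symm
    haveI hPcomm : IsMulCommutative (P : Subgroup C) :=
      f.isMulCommutative_of_isCyclic_of_ker_le_center hf
    have h5 := central_comm_pow (P : Subgroup C) hz'c hz'top
    have h6 := orderOf_dvd_of_pow_eq_one h5
    rw [hz'ord] at h6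
    exact P.not_dvd_index h6
  -- the direct product
  letI cZ : CommGroup Z :=
    { (inferInstance : Group Z) with
      mul_comm := fun a b => Subtype.ext (hZc a.1 a.2 b.1) }
  let eA : Z ≃ {n : ℕ // n < Nat.card Z} := (Finite.equivFin Z).trans Fin.equivSubtype
  letI cA : CommGroup {n : ℕ // n < Nat.card Z} := eA.symm.commGroup
  have hAodd : Odd (Nat.card {n : ℕ // n < Nat.card Z}) := by
    rw [← Nat.card_congr eA]
    exact hZodd
  let eZ : Z ≃* {n : ℕ // n < Nat.card Z} := (eA.symm.mulEquiv).symm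
  -- `C ≃ G / Z ≃ SL₂`
  let ψ : C →* Matrix.SpecialLinearGroup (Fin 2) F := (e.toMonoidHom.comp π).comp C.subtype
  have hψ : Function.Bijective ψ := by
    constructor
    · rw [injective_iff_map_eq_one]
      intro c hc
      have h2 : π (c : G) = 1 := by
        have h3 : e (π (c : G)) = 1 := hc
        have h4 := congrArg e.symm h3
        simpa using h4
      have h3 : (c : G) ∈ Z := (QuotientGroup.eq_one_iff _).1 h2
      exact Subtype.ext (hCZ _ c.2 h3)
    · intro s
      have h1 : e.symm s ∈ C.map π := by rw [hπC]; exact Subgroup.mem_top _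
      obtain ⟨c, hc, h2⟩ := h1
      refine ⟨⟨c, hc⟩, ?_⟩
      show e (π c) = s
      rw [h2]
      simp
  let eC : C ≃* Matrix.SpecialLinearGroup (Fin 2) F := MulEquiv.ofBijective ψ hψ
  -- `G ≃ C × Z`
  let Φ : C × Z →* G :=
    { toFun := fun p => p.1.1 * p.2.1
      map_one' := by simp
      map_mul' := by
        rintro ⟨a, b⟩ ⟨c, d⟩
        show a.1 * c.1 * (b.1 * d.1) = a.1 * b.1 * (c.1 * d.1)
        have : b.1 * c.1 = c.1 * b.1 := hZc b.1 b.2 c.1
        calc a.1 * c.1 * (b.1 * d.1) = a.1 * (c.1 * b.1) * d.1 := by group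
          _ = a.1 * (b.1 * c.1) * d.1 := by rw [this]
          _ = _ := by group }
  have hΦ : Function.Bijective Φ := by
    constructor
    · rw [injective_iff_map_eq_one]
      rintro ⟨c, z⟩ h
      have h1 : c.1 * z.1 = 1 := h
      have h2 : c.1 = z.1⁻¹ := eq_inv_of_mul_eq_one_left h1
      have h3 : c.1 = 1 := hCZ _ c.2 (by rw [h2]; exact Subgroup.inv_mem _ z.2)
      have h4 : z.1 = 1 := by
        rw [h3, one_mul] at h1
        exact h1
      exact Prod.ext (Subtype.ext h3) (Subtype.ext h4)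
    · intro g
      obtain ⟨c, hc, z, hz, rfl⟩ := hdec g
      exact ⟨(⟨c, hc⟩, ⟨z, hz⟩), rfl⟩
  let eG : G ≃* C × Z := (MulEquiv.ofBijective Φ hΦ).symm
  exact ⟨{n : ℕ // n < Nat.card Z}, cA, inferInstance, hAodd, ⟨eG.trans (eC.prodCongr eZ)⟩⟩

end

end Cfsg.Agent.Lib.Coprime.InvAb
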