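import Cfsg.Agent.Lib.Coprime.InvAb.Basic

/-!
# Abelian involution centralisers: the two-point stabilisers

For two points `x ≠ y` we study `D = G_x ∩ G_y`, the set `T` of involutions interchanging them, and
`Q = C(x) ∩ G_y`.  `D` is transitive both on the involutions at `x` and on `T`, and `|T| = |I_x|`, so
the centraliser of `k ∈ T` in `D` has the order of `Q`.
-/

set_option autoImplicit false
set_option linter.unusedSectionVars false

namespace Cfsg.Agent.Lib.Coprime.InvAb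

noncomputable section

open MulAction

universe u

variable {G : Type u} [Group G]

/-- The two-point stabiliser. -/
def DD (hG : ACI G) (x y : Pt hG) : Subgroup G := stabilizer G x ⊓ stabilizer G y

/-- The elements centralising the involutions of `x` and fixing `y`. -/
def QQ (hG : ACI G) (x y : Pt hG) : Subgroup G := FF hG x ⊓ stabilizer G y

theorem mem_DD (hG : ACI G) {x y : Pt hG} {g : G} : g ∈ DD hG x y ↔ g • x = x ∧ g • y = y := by
  simp [DD, Subgroup.mem_inf, mem_stabilizer_iff]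

theorem mem_QQ (hG : ACI G) {x y : Pt hG} {g : G} : g ∈ QQ hG x y ↔ g ∈ FF hG x ∧ g • y = y := by
  simp [QQ, Subgroup.mem_inf, mem_stabilizer_iff]

theorem QQ_le_DD (hG : ACI G) (x y : Pt hG) : QQ hG x y ≤ DD hG x y := by
  intro g hg
  rw [mem_QQ] at hg
  rw [mem_DD]
  exact ⟨FF_smul hG hg.1, hg.2⟩

theorem conj_mem_QQ (hG : ACI G) {x y : Pt hG} {c d : G} (hc : c ∈ QQ hG x y) (hd : d ∈ DD hG x y) :
    d * c * d⁻¹ ∈ QQ hG x y := by
  rw [mem_QQ] at hc ⊢
  rw [mem_DD] at hd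
  refine ⟨conj_mem_FF' hG hc.1 hd.1, ?_⟩
  rw [mul_smul, mul_smul]
  have h1 : d⁻¹ • y = y := by rw [inv_smul_eq_iff, hd.2]
  rw [h1, hc.2, hd.2]

/-- Orbit counting for conjugation. -/
theorem card_orbit' [Finite G] (D S : Subgroup G) (X : Set G) (x₀ : G) (hS : S ≤ D)
    (h1 : ∀ d ∈ D, d * x₀ * d⁻¹ ∈ X) (h2 : ∀ t ∈ X, ∃ d ∈ D, d * x₀ * d⁻¹ = t)
    (h3 : ∀ d ∈ D, d ∈ S ↔ d * x₀ * d⁻¹ = x₀) :
    Nat.card D = X.ncard * Nat.card S := by
  classical
  let S' : Subgroup D := S.subgroupOf D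
  have hS' : Nat.card S' = Nat.card S :=
    Nat.card_congr (Subgroup.subgroupOfEquivOfLe hS).toEquiv
  have hmul := Subgroup.card_eq_card_quotient_mul_card_subgroup S'
  rw [hS'] at hmul
  rw [hmul]
  congr 1
  rw [← Nat.card_coe_set_eq]
  let φ : D → X := fun d => ⟨d.1 * x₀ * d.1⁻¹, h1 d.1 d.2⟩
  have hφ : ∀ a b : D, φ a = φ b ↔ a⁻¹ * b ∈ S' := by
    intro a b
    rw [Subgroup.mem_subgroupOf]
    have hmem : ((a⁻¹ * b : D) : G) ∈ D := (a⁻¹ * b).2
    rw [h3 _ hmem]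
    constructor
    · intro h
      have h4 : a.1 * x₀ * a.1⁻¹ = b.1 * x₀ * b.1⁻¹ := congrArg Subtype.val h
      have h5 : ((a⁻¹ * b : D) : G) = a.1⁻¹ * b.1 := rfl
      rw [h5]
      calc a.1⁻¹ * b.1 * x₀ * (a.1⁻¹ * b.1)⁻¹ = a.1⁻¹ * (b.1 * x₀ * b.1⁻¹) * a.1 := by group
        _ = a.1⁻¹ * (a.1 * x₀ * a.1⁻¹) * a.1 := by rw [h4]
        _ = x₀ := by group
    · intro h
      apply Subtype.ext
      have h5 : ((a⁻¹ * b : D) : G) = a.1⁻¹ * b.1 := rfl
      rw [h5] at h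
      show a.1 * x₀ * a.1⁻¹ = b.1 * x₀ * b.1⁻¹
      calc a.1 * x₀ * a.1⁻¹ = a.1 * (a.1⁻¹ * b.1 * x₀ * (a.1⁻¹ * b.1)⁻¹) * a.1⁻¹ := by rw [h]
        _ = b.1 * x₀ * b.1⁻¹ := by group
  let ψ : D ⧸ S' → X := Quotient.lift φ (by
    intro a b hab
    have h4 : a⁻¹ * b ∈ S' := by
      have := QuotientGroup.leftRel_apply.mp hab
      exact this
    exact (hφ a b).2 h4)
  have hψ : Function.Bijective ψ := by
    constructor
    · intro p q hpq
      obtain ⟨a, rfl⟩ := QuotientGroup.mk_surjective p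
      obtain ⟨b, rfl⟩ := QuotientGroup.mk_surjective q
      have h5 : φ a = φ b := hpq
      exact QuotientGroup.eq.mpr ((hφ a b).1 h5)
    · rintro ⟨t, ht⟩
      obtain ⟨d, hd, hdt⟩ := h2 t ht
      exact ⟨QuotientGroup.mk ⟨d, hd⟩, Subtype.ext hdt⟩
  exact Nat.card_congr (Equiv.ofBijective ψ hψ)

theorem Ix_ncard_smul [Finite G] (hG : ACI G) (g : G) (x : Pt hG) :
    (Ix hG (g • x)).ncard = (Ix hG x).ncard := by
  have h : Ix hG (g • x) = (fun t => g * t * g⁻¹) '' Ix hG x := by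
    ext t
    constructor
    · intro ht
      refine ⟨g⁻¹ * t * g, ?_, by group⟩
      have := conj_mem_Ix hG ht g⁻¹
      rw [inv_smul_smul] at this
      simpa using this
    · rintro ⟨s, hs, rfl⟩
      exact conj_mem_Ix hG hs g
  rw [h]
  apply Set.ncard_image_of_injective
  intro a b hab
  have : g * a * g⁻¹ = g * b * g⁻¹ := hab
  simpa using this

theorem Ix_ncard_eq [Finite G] (hG : ACI G) (x y : Pt hG) : (Ix hG x).ncard = (Ix hG y).ncard := by
  obtain ⟨g, rfl⟩ := MulAction.exists_smul_eq G x y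
  exact (Ix_ncard_smul hG g x).symm

theorem Ix_ncard_pos [Finite G] (hG : ACI G) (x : Pt hG) : 0 < (Ix hG x).ncard := by
  obtain ⟨t, ht⟩ := exists_mem_Ix hG x
  exact (Set.ncard_pos (Set.toFinite _)).2 ⟨t, ht⟩

/-- `k ↦ k i k` is a bijection from the swaps to the involutions at `y`. -/
theorem TT_ncard [Finite G] (hG : ACI G) {x y : Pt hG} (hxy : x ≠ y) {i : G} (hi : i ∈ Ix hG x) :
    (TT hG x y).ncard = (Ix hG y).ncard := by
  apply Set.ncard_congr (fun k _ => k * i * k)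
  · intro k hk
    have := conj_mem_Ix' hG hi hk.1
    rwa [hk.2] at this
  · intro a b ha hb h
    exact swap_unique hG hxy ha hb hi h
  · intro j hj
    obtain ⟨k, hk, hk1, hk2, -⟩ := exists_swap hG hxy hi hj
    exact ⟨k, ⟨hk, hk1⟩, hk2⟩

theorem TT_nonempty [Finite G] (hG : ACI G) {x y : Pt hG} (hxy : x ≠ y) : ∃ k, k ∈ TT hG x y := by
  obtain ⟨i, hi⟩ := exists_mem_Ix hG x
  obtain ⟨j, hj⟩ := exists_mem_Ix hG y
  obtain ⟨k, hk, hk1, -⟩ := exists_swap hG hxy hi hj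
  exact ⟨k, hk, hk1⟩

theorem mul_mem_DD (hG : ACI G) {x y : Pt hG} {k k' : G} (hk : k ∈ TT hG x y)
    (hk' : k' ∈ TT hG x y) : k * k' ∈ DD hG x y := by
  rw [mem_DD, mul_smul, mul_smul, hk'.2, TT_swap hG hk', TT_swap hG hk, hk.2]
  exact ⟨rfl, rfl⟩

/-- `DD` is transitive on the involutions at `x`. -/
theorem DD_trans [Finite G] (hG : ACI G) {x y : Pt hG} (hxy : x ≠ y) {i i' : G} (hi : i ∈ Ix hG x)
    (hi' : i' ∈ Ix hG x) : ∃ d ∈ DD hG x y, d * i * d⁻¹ = i' := by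
  obtain ⟨j, hj⟩ := exists_mem_Ix hG y
  obtain ⟨k, hk, hk1, hk2, -⟩ := exists_swap hG hxy hi hj
  obtain ⟨k', hk', hk1', hk2', -⟩ := exists_swap hG hxy hi' hj
  refine ⟨k' * k, mul_mem_DD hG ⟨hk', hk1'⟩ ⟨hk, hk1⟩, ?_⟩
  rw [mul_inv_rev, hk.inv_eq, hk'.inv_eq]
  calc k' * k * i * (k * k') = k' * (k * i * k) * k' := by group
    _ = k' * (k' * i' * k') * k' := by rw [hk2, hk2']
    _ = (k' * k') * i' * (k' * k') := by group
    _ = i' := by rw [hk'.2]; group

theorem conj_mem_Ix_of_fix (hG : ACI G) {x : Pt hG} {g i : G} (hg : g • x = x) (hi : i ∈ Ix hG x) :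
    g * i * g⁻¹ ∈ Ix hG x := by
  have := conj_mem_Ix hG hi g
  rwa [hg] at this

theorem mem_FF_of_comm (hG : ACI G) {x : Pt hG} {g i : G} (hi : i ∈ Ix hG x)
    (h : g * i * g⁻¹ = i) : g ∈ FF hG x := by
  rw [mem_FF hG hi]
  show g * i = i * g
  calc g * i = g * i * g⁻¹ * g := by group
    _ = i * g := by rw [h]

theorem conj_eq_of_mem_FF (hG : ACI G) {x : Pt hG} {g i : G} (hi : i ∈ Ix hG x)
    (h : g ∈ FF hG x) : g * i * g⁻¹ = i := by
  have h1 : g * i = i * g := (mem_FF hG hi).1 h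
  rw [h1]; group

/-- `|D| = |I_x| |Q|`. -/
theorem card_DD [Finite G] (hG : ACI G) {x y : Pt hG} (hxy : x ≠ y) :
    Nat.card (DD hG x y) = (Ix hG x).ncard * Nat.card (QQ hG x y) := by
  obtain ⟨i, hi⟩ := exists_mem_Ix hG x
  apply card_orbit' (DD hG x y) (QQ hG x y) (Ix hG x) i (QQ_le_DD hG x y)
  · intro d hd
    exact conj_mem_Ix_of_fix hG ((mem_DD hG).1 hd).1 hi
  · intro t ht
    exact DD_trans hG hxy hi ht
  · intro d hd
    rw [mem_QQ]
    constructor
    · intro h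
      exact conj_eq_of_mem_FF hG hi h.1
    · intro h
      exact ⟨mem_FF_of_comm hG hi h, ((mem_DD hG).1 hd).2⟩

/-- The group of elements of `D` centralising a given `k`. -/
def CD (hG : ACI G) (x y : Pt hG) (k : G) : Subgroup G := DD hG x y ⊓ Subgroup.centralizer {k}

theorem mem_CD (hG : ACI G) {x y : Pt hG} {k g : G} :
    g ∈ CD hG x y k ↔ g ∈ DD hG x y ∧ Commute g k := by
  simp only [CD, Subgroup.mem_inf, Subgroup.mem_centralizer_singleton_iff]
  rfl

/-- The product of swaps is inverted by a swap. -/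
theorem swap_inverts {k k' : G} (hk : Invo k) (hk' : Invo k') :
    k * (k * k') * k = (k * k')⁻¹ := by
  rw [mul_inv_rev, hk.inv_eq, hk'.inv_eq]
  calc k * (k * k') * k = (k * k) * k' * k := by group
    _ = k' * k := by rw [hk.2, one_mul]

/-- If `k` inverts `b`, it inverts each power of `b`. -/
theorem inverts_pow {k b : G} (hk : Invo k) (h : k * b * k = b⁻¹) (n : ℕ) :
    k * b ^ n * k = (b ^ n)⁻¹ := by
  induction n with
  | zero => simp [hk.2]
  | succ n ih =>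
    calc k * b ^ (n + 1) * k = k * (b ^ n * 1 * b) * k := by rw [pow_succ, mul_one]
      _ = k * (b ^ n * (k * k) * b) * k := by rw [hk.2]
      _ = (k * b ^ n * k) * (k * b * k) := by group
      _ = (b ^ n)⁻¹ * b⁻¹ := by rw [ih, h]
      _ = (b ^ (n + 1))⁻¹ := by rw [pow_succ', mul_inv_rev]

/-- `D` is transitive on the swaps. -/
theorem DD_trans_TT [Finite G] (hG : ACI G) {x y : Pt hG} (hxy : x ≠ y) {k k' : G}
    (hk : k ∈ TT hG x y) (hk' : k' ∈ TT hG x y) : ∃ d ∈ DD hG x y, d * k * d⁻¹ = k' := by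
  set b := k * k' with hb
  have hbD : b ∈ DD hG x y := mul_mem_DD hG hk hk'
  have hbinv : k * b * k = b⁻¹ := swap_inverts hk.1 hk'.1
  have hodd := odd_of_fix hG hxy ((mem_DD hG).1 hbD).1 ((mem_DD hG).1 hbD).2
  obtain ⟨l, hl⟩ := hodd
  have hgm : b ^ (2 * l + 1) = 1 := by rw [← hl, pow_orderOf_eq_one]
  set β := b ^ (l + 1) with hβ
  have hβ2 : β * β = b := by
    rw [hβ, ← pow_add]
    have : l + 1 + (l + 1) = (2 * l + 1) + 1 := by ring
    rw [this, pow_succ, hgm, one_mul]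
  have hkβ : k * β * k = β⁻¹ := inverts_pow hk.1 hbinv (l + 1)
  refine ⟨β⁻¹, Subgroup.inv_mem _ (Subgroup.pow_mem _ hbD _), ?_⟩
  rw [inv_inv]
  have h1 : k' = k * b := by
    rw [hb, ← mul_assoc, hk.1.2, one_mul]
  rw [h1, ← hβ2]
  have h2 : β⁻¹ = k * β * k := hkβ.symm
  calc β⁻¹ * k * β = (k * β * k) * k * β := by rw [h2]
    _ = k * β * (k * k) * β := by group
    _ = k * (β * β) := by rw [hk.1.2]; group

theorem conj_mem_TT (hG : ACI G) {x y : Pt hG} {k d : G} (hk : k ∈ TT hG x y)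
    (hd : d ∈ DD hG x y) : d * k * d⁻¹ ∈ TT hG x y := by
  refine ⟨hk.1.conj d, ?_⟩
  rw [mem_DD] at hd
  have h1 : d⁻¹ • x = x := by rw [inv_smul_eq_iff, hd.1]
  rw [mul_smul, mul_smul, h1, hk.2, hd.2]

/-- `|C_D(k)| = |Q|`. -/
theorem card_CD [Finite G] (hG : ACI G) {x y : Pt hG} (hxy : x ≠ y) {k : G} (hk : k ∈ TT hG x y) :
    Nat.card (CD hG x y k) = Nat.card (QQ hG x y) := by
  have h1 : Nat.card (DD hG x y) = (TT hG x y).ncard * Nat.card (CD hG x y k) := by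
    apply card_orbit' (DD hG x y) (CD hG x y k) (TT hG x y) k inf_le_left
    · intro d hd
      exact conj_mem_TT hG hk hd
    · intro t ht
      exact DD_trans_TT hG hxy hk ht
    · intro d hd
      rw [mem_CD]
      constructor
      · intro h
        have h2 : d * k = k * d := h.2
        rw [h2]; group
      · intro h
        refine ⟨hd, ?_⟩
        show d * k = k * d
        calc d * k = d * k * d⁻¹ * d := by group
          _ = k * d := by rw [h]
  obtain ⟨i, hi⟩ := exists_mem_Ix hG x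
  rw [TT_ncard hG hxy hi, card_DD hG hxy, Ix_ncard_eq hG y x] at h1
  exact (Nat.eq_of_mul_eq_mul_left (Ix_ncard_pos hG x) h1).symm

/-- `C_D(k)` is `C(u) ∩ G_x`, `u` the point of `k`. -/
theorem CD_eq (hG : ACI G) {x y : Pt hG} {k : G} (hk : k ∈ TT hG x y) :
    CD hG x y k = QQ hG (pt hG k hk.1) x := by
  ext g
  rw [mem_CD, mem_QQ, mem_FF hG (pt_mem_Ix hG hk.1), mem_DD]
  constructor
  · rintro ⟨⟨h1, -⟩, h3⟩
    exact ⟨h3, h1⟩
  · rintro ⟨h1, h2⟩
    refine ⟨⟨h2, ?_⟩, h1⟩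
    rw [← hk.2, ← mul_smul, (h1 : g * k = k * g), mul_smul, h2]

theorem ne_pt_of_TT (hG : ACI G) {x y : Pt hG} (hxy : x ≠ y) {k : G} (hk : k ∈ TT hG x y) :
    pt hG k hk.1 ≠ x := by
  intro h
  have h1 : k ∈ Ix hG x := by
    rw [← h]
    exact pt_mem_Ix hG hk.1
  apply hxy
  have h2 := conj_mem_Ix' hG h1 hk.1
  rw [hk.2] at h2
  have h3 : k * k * k = k := by rw [hk.1.2, one_mul]
  rw [h3] at h2
  exact eq_of_mem_Ix hG h1 h2

/-- `|C(u) ∩ G_x| = |C(x) ∩ G_y|` if a swap of `x,y` is at `u`. -/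
theorem card_QQ_swap [Finite G] (hG : ACI G) {x y : Pt hG} (hxy : x ≠ y) {k : G}
    (hk : k ∈ TT hG x y) :
    Nat.card (QQ hG (pt hG k hk.1) x) = Nat.card (QQ hG x y) := by
  rw [← CD_eq hG hk, card_CD hG hxy hk]

/-- Elements of `F_x` and `F_y` commute with the swaps. -/
theorem comm_swap_of_FF [Finite G] (hG : ACI G) {x y : Pt hG} (hxy : x ≠ y) {k c : G} (hk : k ∈ TT hG x y)
    (h1 : c ∈ FF hG x) (h2 : c ∈ FF hG y) : Commute c k := by
  obtain ⟨i, hi⟩ := exists_mem_Ix hG x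
  have hj : k * i * k ∈ Ix hG y := by
    have := conj_mem_Ix' hG hi hk.1
    rwa [hk.2] at this
  exact comm_swap hG hxy hk hi ((mem_FF hG hi).1 h1) ((mem_FF hG hj).1 h2)

/-- An element of `D` inverted by a swap of the form `k k'`, with prescribed action on `I_x`. -/
theorem exists_beta [Finite G] (hG : ACI G) {x y : Pt hG} (hxy : x ≠ y) {k i i' : G}
    (hk : k ∈ TT hG x y) (hi : i ∈ Ix hG x) (hi' : i' ∈ Ix hG x) :
    ∃ β ∈ DD hG x y, k * β * k = β⁻¹ ∧ β * i * β⁻¹ = i' := by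
  have hj : k * i' * k ∈ Ix hG y := by
    have := conj_mem_Ix' hG hi' hk.1
    rwa [hk.2] at this
  obtain ⟨k₁, hk₁, hk₁x, hk₁2, -⟩ := exists_swap hG hxy hi hj
  refine ⟨k * k₁, mul_mem_DD hG hk ⟨hk₁, hk₁x⟩, swap_inverts hk.1 hk₁, ?_⟩
  rw [mul_inv_rev, hk.1.inv_eq, hk₁.inv_eq]
  calc k * k₁ * i * (k₁ * k) = k * (k₁ * i * k₁) * k := by group
    _ = k * (k * i' * k) * k := by rw [hk₁2]
    _ = (k * k) * i' * (k * k) := by group
    _ = i' := by rw [hk.1.2]; group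

/-- **Two swaps with the same centraliser in `D`**. -/
theorem exists_swap_same [Finite G] (hG : ACI G) {x y : Pt hG} (hxy : x ≠ y)
    (hcard : 2 ≤ (Ix hG x).ncard) {k : G} (hk : k ∈ TT hG x y) :
    ∃ k' ∈ TT hG x y, k' ≠ k ∧ ∀ c ∈ CD hG x y k, Commute c k' := by
  obtain ⟨i, hi⟩ := exists_mem_Ix hG x
  -- it suffices to find `β`
  suffices h : ∃ β ∈ DD hG x y, k * β * k = β⁻¹ ∧ β ≠ 1 ∧
      ∀ c ∈ CD hG x y k, Commute (β⁻¹ * c * β) k by
    obtain ⟨β, hβ, hβ1, hβ2, hβ3⟩ := h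
    refine ⟨β * k * β⁻¹, conj_mem_TT hG hk hβ, ?_, ?_⟩
    · intro h1
      have h2 : β * k = k * β := by
        calc β * k = β * k * β⁻¹ * β := by group
          _ = k * β := by rw [h1]
      have h3 : k * β * k = β := by
        rw [← h2, mul_assoc, hk.1.2, mul_one]
      rw [h3] at hβ1
      have h4 : β * β = 1 := mul_eq_one_iff_eq_inv.mpr hβ1
      exact not_invo_of_fix hG hxy ⟨hβ2, h4⟩ ((mem_DD hG).1 hβ).1 ((mem_DD hG).1 hβ).2
    · intro c hc
      have h1 := hβ3 c hc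
      have h2 := comm_conj h1 β
      have h3 : β * (β⁻¹ * c * β) * β⁻¹ = c := by group
      rwa [h3] at h2
  by_cases hC : ∀ c ∈ CD hG x y k, Commute c i
  · -- `C_D(k) ≤ Q`, hence equal
    have hle : CD hG x y k ≤ QQ hG x y := by
      intro c hc
      have hc' := (mem_CD hG).1 hc
      rw [mem_QQ]
      exact ⟨(mem_FF hG hi).2 (hC c hc), ((mem_DD hG).1 hc'.1).2⟩
    have heq : CD hG x y k = QQ hG x y :=
      Subgroup.eq_of_le_of_card_ge hle (card_CD hG hxy hk).ge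
    -- another involution at `x`
    obtain ⟨i', hi', hne⟩ : ∃ i' ∈ Ix hG x, i' ≠ i := by
      have h1 : 1 < (Ix hG x).ncard := hcard
      exact Set.exists_ne_of_one_lt_ncard h1 i
    obtain ⟨β, hβ, hβ1, hβ2⟩ := exists_beta hG hxy hk hi hi'
    refine ⟨β, hβ, hβ1, ?_, ?_⟩
    · rintro rfl
      apply hne
      rw [← hβ2]
      group
    · intro c hc
      rw [heq] at hc
      have h1 : β⁻¹ * c * β ∈ QQ hG x y := by
        have := conj_mem_QQ hG hc (Subgroup.inv_mem _ hβ)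
        simpa using this
      rw [← heq] at h1
      exact ((mem_CD hG).1 h1).2
  · push Not at hC
    obtain ⟨c, hc, hci⟩ := hC
    have hc' := (mem_CD hG).1 hc
    have hcD := (mem_DD hG).1 hc'.1
    have hi' : c * i * c⁻¹ ∈ Ix hG x := conj_mem_Ix_of_fix hG hcD.1 hi
    obtain ⟨β, hβ, hβ1, hβ2⟩ := exists_beta hG hxy hk hi hi'
    have hβD := (mem_DD hG).1 hβ
    refine ⟨β, hβ, hβ1, ?_, ?_⟩
    · rintro rfl
      apply hci
      have h1 : c * i * c⁻¹ = i := by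
        rw [← hβ2]
        group
      show c * i = i * c
      calc c * i = c * i * c⁻¹ * c := by group
        _ = i * c := by rw [h1]
    · intro c₂ hc₂
      have hc₂' := (mem_CD hG).1 hc₂
      have hc₂D := (mem_DD hG).1 hc₂'.1
      -- `c` and `c₂` commute, both being in `C(k)`
      have hcc : Commute c c₂ := hG k c c₂ hk.1 hc'.2 hc₂'.2
      -- `e = β⁻¹ c ∈ F_x`
      set e := β⁻¹ * c with he
      have he1 : e ∈ FF hG x := by
        apply mem_FF_of_comm hG hi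
        rw [he, mul_inv_rev, inv_inv]
        calc β⁻¹ * c * i * (c⁻¹ * β) = β⁻¹ * (c * i * c⁻¹) * β := by group
          _ = β⁻¹ * (β * i * β⁻¹) * β := by rw [hβ2]
          _ = i := by group
      have hce : c = β * e := by rw [he]; group
      have hβe : β = c * e⁻¹ := by rw [he]; group
      -- `γ = β⁻¹ c₂ β c₂⁻¹`
      set γ := β⁻¹ * c₂ * β * c₂⁻¹ with hγ
      have hγ1 : γ ∈ FF hG x := by
        have h1 : γ = e * (c₂ * e⁻¹ * c₂⁻¹) := by
          have h2 : c⁻¹ * c₂ * c = c₂ := by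
            have h3 : c₂ * c = c * c₂ := hcc.symm
            rw [mul_assoc, h3]; group
          rw [hγ, hβe]
          calc (c * e⁻¹)⁻¹ * c₂ * (c * e⁻¹) * c₂⁻¹ = e * (c⁻¹ * c₂ * c) * e⁻¹ * c₂⁻¹ := by group
            _ = e * c₂ * e⁻¹ * c₂⁻¹ := by rw [h2]
            _ = _ := by group
        rw [h1]
        exact Subgroup.mul_mem _ he1 (conj_mem_FF' hG (Subgroup.inv_mem _ he1) hc₂D.1)
      set γ' := β * c₂ * β⁻¹ * c₂⁻¹ with hγ'
      have hγ2 : γ' ∈ FF hG x := by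
        have h1 : γ' = c * (e⁻¹ * (c₂ * e * c₂⁻¹)) * c⁻¹ := by
          have h3 : c⁻¹ * c₂⁻¹ = c₂⁻¹ * c⁻¹ := by
            have := (hcc.inv_inv : Commute c⁻¹ c₂⁻¹)
            exact this
          rw [hγ', hβe]
          calc c * e⁻¹ * c₂ * (c * e⁻¹)⁻¹ * c₂⁻¹ = c * e⁻¹ * c₂ * e * (c⁻¹ * c₂⁻¹) := by group
            _ = c * e⁻¹ * c₂ * e * (c₂⁻¹ * c⁻¹) := by rw [h3]
            _ = _ := by group
        rw [h1]
        exact conj_mem_FF' hG (Subgroup.mul_mem _ (Subgroup.inv_mem _ he1)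
          (conj_mem_FF' hG he1 hc₂D.1)) hcD.1
      -- `k γ k = γ'`
      have hkc₂ : k * c₂ * k = c₂ := by
        rw [← (hc₂'.2 : c₂ * k = k * c₂), mul_assoc, hk.1.2, mul_one]
      have hβ1' : k * β⁻¹ * k = β := by
        have h1 : k * β⁻¹ * k = (k * β * k)⁻¹ := by
          rw [mul_inv_rev, mul_inv_rev, hk.1.inv_eq]
          group
        rw [h1, hβ1, inv_inv]
      have hkγ : k * γ * k = γ' := by
        have hkc₂' : k * c₂⁻¹ * k = c₂⁻¹ := by
          have h1 : k * c₂⁻¹ * k = (k * c₂ * k)⁻¹ := by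
            rw [mul_inv_rev, mul_inv_rev, hk.1.inv_eq]
            group
          rw [h1, hkc₂]
        calc k * γ * k = (k * β⁻¹ * k) * (k * c₂ * k) * (k * β * k) * (k * c₂⁻¹ * k) := by
              have hkk : k * k = 1 := hk.1.2
              rw [hγ]
              calc k * (β⁻¹ * c₂ * β * c₂⁻¹) * k
                  = k * β⁻¹ * 1 * c₂ * 1 * β * 1 * c₂⁻¹ * k := by group
                _ = k * β⁻¹ * (k * k) * c₂ * (k * k) * β * (k * k) * c₂⁻¹ * k := by rw [hkk]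
                _ = _ := by group
          _ = β * c₂ * β⁻¹ * c₂⁻¹ := by rw [hβ1', hkc₂, hβ1, hkc₂']
      have hγk : Commute γ k := by
        apply comm_swap hG hxy hk hi ((mem_FF hG hi).1 hγ1)
        have h1 : Commute γ' i := (mem_FF hG hi).1 hγ2
        have h2 := comm_invo hk.1 h1
        rw [← hkγ] at h2
        have h3 : k * (k * γ * k) * k = γ := by
          calc k * (k * γ * k) * k = (k * k) * γ * (k * k) := by group
            _ = γ := by rw [hk.1.2]; group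
        rwa [h3] at h2
      have h5 : β⁻¹ * c₂ * β = γ * c₂ := by rw [hγ]; group
      rw [h5]
      exact hγk.mul_left hc₂'.2

/-- The pair of swaps do not commute. -/
theorem not_comm_swaps (hG : ACI G) {x y : Pt hG} (hxy : x ≠ y) {k k' : G} (hk : k ∈ TT hG x y)
    (hk' : k' ∈ TT hG x y) (hne : k' ≠ k) : ¬ Commute k k' := by
  intro h
  have h1 : k * k' ≠ 1 := by
    intro h2
    apply hne
    have h3 : k' = k⁻¹ := eq_inv_of_mul_eq_one_right h2
    rw [h3, hk.1.inv_eq]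
  have h2 : k * k' * (k * k') = 1 := by
    calc k * k' * (k * k') = k * (k' * k) * k' := by group
      _ = k * (k * k') * k' := by rw [(h : k * k' = k' * k).symm]
      _ = (k * k) * (k' * k') := by group
      _ = 1 := by rw [hk.1.2, hk'.1.2, one_mul]
  have h3 := (mem_DD hG).1 (mul_mem_DD hG hk hk')
  exact not_invo_of_fix hG hxy ⟨h1, h2⟩ h3.1 h3.2

end

end Cfsg.Agent.Lib.Coprime.InvAb
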