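import Cfsg.Agent.Lib.Coprime.InvAb.Lift

/-!
# Finite groups with abelian centralisers of involutions: the extremal argument

Choosing `C(i) ∩ G_y` of maximal order gives a subgroup `Z` of odd order; its centraliser modulo `Z`
falls under the trivial case, and a parity argument shows that the centraliser is everything.
-/

set_option autoImplicit false
set_option linter.unusedSectionVars false
set_option linter.style.haveILetI false

namespace Cfsg.Agent.Lib.Coprime.InvAb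

noncomputable section

open MulAction

universe u

variable {G : Type u} [Group G] [Finite G]

theorem invo_coe {H : Subgroup G} {t : H} : Invo t ↔ Invo (t : G) := by
  constructor
  · intro h
    exact ⟨fun h1 => h.1 (Subtype.ext h1), congrArg Subtype.val h.2⟩
  · intro h
    exact ⟨fun h1 => h.1 (congrArg Subtype.val h1), Subtype.ext h.2⟩

theorem comm_coe {H : Subgroup G} {a b : H} : Commute a b ↔ Commute (a : G) (b : G) :=
  ⟨fun h => congrArg Subtype.val h, fun h => Subtype.ext h⟩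

theorem aci_sub (hG : ACI G) (H : Subgroup G) : ACI H := by
  intro t a b ht ha hb
  exact comm_coe.2 (hG t a b (invo_coe.1 ht) (comm_coe.1 ha) (comm_coe.1 hb))

/-- The centraliser of a subgroup. -/
abbrev CC (Z : Subgroup G) : Subgroup G := Subgroup.centralizer (Z : Set G)

theorem mem_CC {Z : Subgroup G} {g : G} : g ∈ CC Z ↔ ∀ z ∈ Z, Commute z g := by
  rw [Subgroup.mem_centralizer_iff]
  rfl

/-- An involution centralising `Z`. -/
def IX (Z : Subgroup G) (t : G) : Prop := Invo t ∧ ∀ z ∈ Z, Commute z t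

theorem mem_CC_of_comm (hG : ACI G) {Z : Subgroup G} {t g : G} (ht : IX Z t) (h : Commute g t) :
    g ∈ CC Z :=
  mem_CC.2 fun z hz => hG t z g ht.1 (ht.2 z hz) h

theorem IX_of_comm (hG : ACI G) {Z : Subgroup G} {t u : G} (ht : IX Z t) (hu : Invo u)
    (h : Commute u t) : IX Z u :=
  ⟨hu, fun z hz => mem_CC.1 (mem_CC_of_comm hG ht h) z hz⟩

/-- The centraliser of `Z` is transitive on its involutions. -/
theorem CC_trans (hG : ACI G) {Z : Subgroup G} {k k' : G} (hk : IX Z k) (hk' : IX Z k')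
    (hkk : ¬ Commute k k') {t t' : G} (ht : IX Z t) (ht' : IX Z t') :
    ∃ r ∈ CC Z, r * t * r⁻¹ = t' := by
  have hsw : ∀ {u v : G}, IX Z u → IX Z v → ¬ Commute u v →
      ∃ l ∈ CC Z, Invo l ∧ l * u * l = v := by
    intro u v hu hv huv
    obtain ⟨l, hl, h1, h2⟩ := exists_swap_aux hG hu.1 hv.1 huv
    exact ⟨l, mem_CC.2 fun z hz => h2 z (hu.2 z hz) (hv.2 z hz), hl, h1⟩
  by_cases htt : Commute t t'
  · obtain ⟨u, hu, htu⟩ : ∃ u, IX Z u ∧ ¬ Commute t u := by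
      by_cases h : Commute t k
      · exact ⟨k', hk', fun h2 => hkk (hG.trans ht.1 h.symm h2)⟩
      · exact ⟨k, hk, h⟩
    have htu' : ¬ Commute t' u := fun h2 => htu (hG.trans ht'.1 htt h2)
    obtain ⟨l₁, hl₁, hi₁, h₁⟩ := hsw ht hu htu
    obtain ⟨l₂, hl₂, hi₂, h₂⟩ := hsw ht' hu htu'
    refine ⟨l₂ * l₁, (CC Z).mul_mem hl₂ hl₁, ?_⟩
    rw [mul_inv_rev, hi₁.inv_eq, hi₂.inv_eq]
    calc l₂ * l₁ * t * (l₁ * l₂) = l₂ * (l₁ * t * l₁) * l₂ := by group
      _ = l₂ * (l₂ * t' * l₂) * l₂ := by rw [h₁, h₂]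
      _ = (l₂ * l₂) * t' * (l₂ * l₂) := by group
      _ = t' := by rw [hi₂.2]; group
  · obtain ⟨l, hl, hi, h⟩ := hsw ht ht' htt
    exact ⟨l, hl, by rw [hi.inv_eq, h]⟩

/-- If `t` and `g t g⁻¹` are involutions of the centraliser of `Z`, then `g` centralises `Z`. -/
theorem mem_CC_of_conj (hG : ACI G) {Z : Subgroup G} {k k' : G} (hk : IX Z k) (hk' : IX Z k')
    (hkk : ¬ Commute k k') {t g : G} (ht : IX Z t) (hg : IX Z (g * t * g⁻¹)) : g ∈ CC Z := by
  obtain ⟨r, hr, hrt⟩ := CC_trans hG hk hk' hkk ht hg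
  have h : Commute (r⁻¹ * g) t := by
    show r⁻¹ * g * t = t * (r⁻¹ * g)
    have h1 : g * t = r * t * r⁻¹ * g := by rw [hrt]; group
    calc r⁻¹ * g * t = r⁻¹ * (g * t) := by group
      _ = r⁻¹ * (r * t * r⁻¹ * g) := by rw [h1]
      _ = t * (r⁻¹ * g) := by group
  have h2 := mem_CC_of_comm hG ht h
  have h3 : g = r * (r⁻¹ * g) := by group
  rw [h3]
  exact (CC Z).mul_mem hr h2

/-! ### Conjugates of a subgroup -/

/-- The conjugate of a subgroup. -/
def cj (l : G) (Z : Subgroup G) : Subgroup G := Z.map (MulAut.conj l).toMonoidHom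

theorem mem_cj {l g : G} {Z : Subgroup G} : g ∈ cj l Z ↔ l⁻¹ * g * l ∈ Z := by
  constructor
  · rintro ⟨z, hz, rfl⟩
    have : l⁻¹ * (MulAut.conj l).toMonoidHom z * l = z := by
      show l⁻¹ * (l * z * l⁻¹) * l = z
      group
    rw [this]
    exact hz
  · intro h
    refine ⟨_, h, ?_⟩
    show l * (l⁻¹ * g * l) * l⁻¹ = g
    group

theorem card_cj (l : G) (Z : Subgroup G) : Nat.card (cj l Z) = Nat.card Z :=
  Subgroup.card_map_of_injective (MulAut.conj l).injective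

theorem orderOf_conj_eq (l g : G) : orderOf (l⁻¹ * g * l) = orderOf g := by
  have := MulEquiv.orderOf_eq (MulAut.conj l⁻¹) g
  rw [MulAut.conj_apply, inv_inv] at this
  exact this

theorem odd_orderOf_of_mem {Z : Subgroup G} (h : Odd (Nat.card Z)) {z : G} (hz : z ∈ Z) :
    Odd (orderOf z) :=
  Odd.of_dvd_nat h (Subgroup.orderOf_dvd_natCard Z hz)

theorem invo_conj_inv {t : G} (h : Invo t) (l : G) : Invo (l⁻¹ * t * l) := by
  have := h.conj l⁻¹
  rwa [inv_inv] at this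

theorem comm_conj_inv {a b : G} (h : Commute a b) (l : G) :
    Commute (l⁻¹ * a * l) (l⁻¹ * b * l) := by
  have := comm_conj h l⁻¹
  rwa [inv_inv] at this

theorem IX_cj {Z : Subgroup G} {l t : G} : IX (cj l Z) t ↔ IX Z (l⁻¹ * t * l) := by
  constructor
  · intro h
    refine ⟨invo_conj_inv h.1 l, fun z hz => ?_⟩
    have h1 : l * z * l⁻¹ ∈ cj l Z := by
      rw [mem_cj]
      have : l⁻¹ * (l * z * l⁻¹) * l = z := by group
      rwa [this]
    have h2 := comm_conj_inv (h.2 _ h1) l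
    have : l⁻¹ * (l * z * l⁻¹) * l = z := by group
    rwa [this] at h2
  · intro h
    refine ⟨?_, fun z hz => ?_⟩
    · have := h.1.conj l
      have e : l * (l⁻¹ * t * l) * l⁻¹ = t := by group
      rwa [e] at this
    · have h1 := comm_conj (h.2 _ (mem_cj.1 hz)) l
      have e1 : l * (l⁻¹ * t * l) * l⁻¹ = t := by group
      have e2 : l * (l⁻¹ * z * l) * l⁻¹ = z := by group
      rwa [e1, e2] at h1

theorem mem_CC_cj {Z : Subgroup G} {l g : G} : g ∈ CC (cj l Z) ↔ l⁻¹ * g * l ∈ CC Z := by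
  rw [mem_CC, mem_CC]
  constructor
  · intro h z hz
    have h1 : l * z * l⁻¹ ∈ cj l Z := by
      rw [mem_cj]
      have : l⁻¹ * (l * z * l⁻¹) * l = z := by group
      rwa [this]
    have h2 := comm_conj_inv (h _ h1) l
    have : l⁻¹ * (l * z * l⁻¹) * l = z := by group
    rwa [this] at h2
  · intro h z hz
    have h1 := comm_conj (h _ (mem_cj.1 hz)) l
    have e1 : l * (l⁻¹ * g * l) * l⁻¹ = g := by group
    have e2 : l * (l⁻¹ * z * l) * l⁻¹ = z := by group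
    rwa [e1, e2] at h1

/-- The control properties of `Z`, stable under conjugation. -/
structure Ctl (Z : Subgroup G) : Prop where
  odd : Odd (Nat.card Z)
  c1 : ∀ i g : G, IX Z i → Commute g i → Odd (orderOf g) → g ∈ Z
  conj : ∀ t g : G, IX Z t → IX Z (g * t * g⁻¹) → g ∈ CC Z

theorem Ctl.cjg {Z : Subgroup G} (h : Ctl Z) (l : G) : Ctl (cj l Z) where
  odd := by rw [card_cj]; exact h.odd
  c1 := by
    intro i g hi hg hodd
    rw [mem_cj]
    exact h.c1 _ _ (IX_cj.1 hi) (comm_conj_inv hg l) (by rw [orderOf_conj_eq]; exact hodd)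
  conj := by
    intro t g ht hg
    rw [mem_CC_cj]
    apply h.conj (l⁻¹ * t * l) _ (IX_cj.1 ht)
    have h1 := IX_cj.1 hg
    have e : l⁻¹ * g * l * (l⁻¹ * t * l) * (l⁻¹ * g * l)⁻¹ = l⁻¹ * (g * t * g⁻¹) * l := by group
    rw [e]
    exact h1

/-- **The centraliser of `Z` is everything.** -/
theorem central_main (hG : ACI G) {Z : Subgroup G} (hC : Ctl Z) {k : G} (hk : IX Z k)
    (hno : ∀ R : Subgroup G, (∀ r ∈ R, ¬ Invo r) → R ≤ CC Z →
      ¬ ∀ s t : G, IX Z s → IX Z t → ∃ r ∈ R, r * s * r⁻¹ = t) (g : G) : g ∈ CC Z := by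
  by_contra hg₀
  -- an involution outside
  obtain ⟨y₀, hy₀, hy₀X⟩ : ∃ y₀, Invo y₀ ∧ y₀ ∉ CC Z := by
    by_contra hcon
    push Not at hcon
    apply hg₀
    apply hC.conj k g hk
    have hi := hk.1.conj g
    exact ⟨hi, fun z hz => mem_CC.1 (hcon _ hi) z hz⟩
  have hny : ∀ {t : G}, IX Z t → ¬ Commute t y₀ := fun {t} ht h =>
    hy₀X (mem_CC_of_comm hG ht h.symm)
  obtain ⟨k₀, hk₀, hk₀k, -⟩ := exists_swap_aux hG hk.1 hy₀ (hny hk)
  set Z' := cj k₀ Z with hZ'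
  have hC' : Ctl Z' := hC.cjg k₀
  have hy₀' : IX Z' y₀ := by
    rw [hZ', IX_cj, hk₀.inv_eq, ← hk₀k]
    have e : k₀ * (k₀ * k * k₀) * k₀ = (k₀ * k₀) * k * (k₀ * k₀) := by group
    rw [e, hk₀.2]
    simpa using hk
  -- every swap from an involution of `C(Z)` to `y₀` moves `Z` to `Z'`
  have hswap : ∀ {t l : G}, IX Z t → Invo l → l * t * l = y₀ → cj l Z = Z' := by
    intro t l ht hl hlt
    apply Subgroup.eq_of_le_of_card_ge
    · intro u hu
      rw [mem_cj] at hu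
      apply hC'.c1 y₀ u hy₀'
      · have h1 := comm_conj (ht.2 _ hu) l
        rw [hl.inv_eq] at h1
        have e : l * (l * u * l) * l = u := by
          calc l * (l * u * l) * l = (l * l) * u * (l * l) := by group
            _ = u := by rw [hl.2]; group
        rw [hl.inv_eq] at hu
        rw [e, hlt] at h1
        exact h1
      · have h1 := odd_orderOf_of_mem hC.odd hu
        rwa [orderOf_conj_eq] at h1
    · rw [hZ', card_cj, card_cj]
  -- no involution in `C(Z) ∩ C(Z')`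
  have hnoinv : ∀ r ∈ CC Z ⊓ CC Z', ¬ Invo r := by
    intro r hr hri
    have h1 : IX Z r := ⟨hri, mem_CC.1 hr.1⟩
    have h2 : Z' ≤ Z := fun u hu =>
      hC.c1 r u h1 (mem_CC.1 hr.2 u hu) (odd_orderOf_of_mem hC'.odd hu)
    have h3 : Z' = Z := by
      apply Subgroup.eq_of_le_of_card_ge h2
      rw [hZ', card_cj]
    rw [h3] at hy₀'
    exact hy₀X (mem_CC.2 hy₀'.2)
  refine hno (CC Z ⊓ CC Z') hnoinv inf_le_left ?_
  intro t t' ht ht'
  obtain ⟨k₁, hk₁, hk₁t, -⟩ := exists_swap_aux hG ht.1 hy₀ (hny ht)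
  obtain ⟨k₂, hk₂, hk₂t, -⟩ := exists_swap_aux hG ht'.1 hy₀ (hny ht')
  have hb : (k₂ * k₁) * t * (k₂ * k₁)⁻¹ = t' := by
    rw [mul_inv_rev, hk₁.inv_eq, hk₂.inv_eq]
    calc k₂ * k₁ * t * (k₁ * k₂) = k₂ * (k₁ * t * k₁) * k₂ := by group
      _ = k₂ * (k₂ * t' * k₂) * k₂ := by rw [hk₁t, hk₂t]
      _ = (k₂ * k₂) * t' * (k₂ * k₂) := by group
      _ = t' := by rw [hk₂.2]; group
  refine ⟨k₂ * k₁, ⟨?_, ?_⟩, hb⟩
  · exact hC.conj t _ ht (by rw [hb]; exact ht')
  · apply hC'.conj y₀ _ hy₀'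
    have h1 : (k₂ * k₁) * y₀ * (k₂ * k₁)⁻¹ = k₂ * t * k₂ := by
      rw [mul_inv_rev, hk₁.inv_eq, hk₂.inv_eq, ← hk₁t]
      calc k₂ * k₁ * (k₁ * t * k₁) * (k₁ * k₂) = k₂ * (k₁ * k₁) * t * (k₁ * k₁) * k₂ := by group
        _ = k₂ * t * k₂ := by rw [hk₁.2]; group
    rw [h1, ← hswap ht' hk₂ hk₂t, IX_cj, hk₂.inv_eq]
    have e : k₂ * (k₂ * t * k₂) * k₂ = (k₂ * k₂) * t * (k₂ * k₂) := by group
    rw [e, hk₂.2]
    simpa using ht

/-- **The main theorem, given the subgroup `Z`.** -/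
theorem main_extremal (hG : ACI G) {Z : Subgroup G} (hZodd : Odd (Nat.card Z)) {k k' k₂ : G}
    (hk : IX Z k) (hk' : IX Z k') (hkk : ¬ Commute k k') (hk₂ : Invo k₂) (hne : k₂ ≠ k)
    (hc : Commute k₂ k)
    (hMax : ∀ i j g : G, IX Z i → IX Z j → ¬ Commute i j → Commute g i →
      Commute (g * j * g⁻¹) j → g ∈ Z) :
    ∃ (F : Type) (_ : Field F) (_ : Fintype F) (A : Type) (_ : CommGroup A) (_ : Finite A),
      CharP F 2 ∧ Odd (Nat.card A) ∧ Nonempty (G ≃* Matrix.SpecialLinearGroup (Fin 2) F × A) := by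
  classical
  have hk₂X : IX Z k₂ := IX_of_comm hG hk hk₂ hc
  have hZX : Z ≤ CC Z := fun z hz => mem_CC_of_comm hG hk (hk.2 z hz)
  set X := CC Z with hX
  -- quotient in `X`
  let Zw : Subgroup X := Z.subgroupOf X
  have hZwc : ∀ z ∈ Zw, ∀ w : X, Commute z w := by
    intro z hz w
    exact comm_coe.2 (mem_CC.1 w.2 _ (Subgroup.mem_subgroupOf.1 hz))
  haveI hZwn : Zw.Normal := by
    refine ⟨fun n hn g => ?_⟩
    have h1 : g * n * g⁻¹ = n := by
      have h2 : n * g = g * n := hZwc n hn g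
      rw [← h2]
      group
    rw [h1]
    exact hn
  have hZwodd : Odd (Nat.card Zw) := by
    have : Nat.card Zw = Nat.card Z := Nat.card_congr (Subgroup.subgroupOfEquivOfLe hZX).toEquiv
    rw [this]
    exact hZodd
  have hIX : ∀ {t : X}, Invo t → IX Z (t : G) := fun {t} ht =>
    ⟨invo_coe.1 ht, mem_CC.1 t.2⟩
  have hQw : ∀ i j g : X, Invo i → Invo j → ¬ Commute i j → Commute g i →
      Commute (g * j * g⁻¹) j → g ∈ Zw := by
    intro i j g hi hj hij hg hg'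
    apply Subgroup.mem_subgroupOf.2
    exact hMax i j g (hIX hi) (hIX hj) (fun h => hij (comm_coe.2 h)) (comm_coe.1 hg)
      (comm_coe.1 hg')
  have hkX : k ∈ X := mem_CC.2 hk.2
  have hk'X : k' ∈ X := mem_CC.2 hk'.2
  have hk₂X' : k₂ ∈ X := mem_CC.2 hk₂X.2
  have hi1 : Invo (⟨k, hkX⟩ : X) := invo_coe.2 hk.1
  have hi2 : Invo (⟨k', hk'X⟩ : X) := invo_coe.2 hk'.1
  have hi3 : Invo (⟨k₂, hk₂X'⟩ : X) := invo_coe.2 hk₂
  have hnc : ¬ Commute (⟨k, hkX⟩ : X) ⟨k', hk'X⟩ := fun h => hkk (comm_coe.1 h)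
  have hne' : (⟨k₂, hk₂X'⟩ : X) ≠ ⟨k, hkX⟩ := fun h => hne (congrArg Subtype.val h)
  have hcc : Commute (⟨k₂, hk₂X'⟩ : X) ⟨k, hkX⟩ := comm_coe.2 hc
  obtain ⟨hc1, hc2, -, -⟩ := quot_main Zw (aci_sub hG X) hZwc hZwodd hQw hi1 hi2 hnc hi3 hi1 hne' hcc
  -- the control properties
  have hCtl : Ctl Z := by
    refine ⟨hZodd, ?_, ?_⟩
    · intro i g hi hg hodd
      have hgX : g ∈ X := mem_CC_of_comm hG hi hg
      have hiX : i ∈ X := mem_CC.2 hi.2
      have h1 := hc1 ⟨i, hiX⟩ ⟨g, hgX⟩ (invo_coe.2 hi.1) (comm_coe.2 hg)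
        (by rw [Subgroup.orderOf_mk]; exact hodd)
      exact Subgroup.mem_subgroupOf.1 h1
    · intro t g ht hg
      exact mem_CC_of_conj hG hk hk' hkk ht hg
  have hno : ∀ R : Subgroup G, (∀ r ∈ R, ¬ Invo r) → R ≤ CC Z →
      ¬ ∀ s t : G, IX Z s → IX Z t → ∃ r ∈ R, r * s * r⁻¹ = t := by
    intro R hR hRX htr
    apply hc2 (R.subgroupOf X)
    · intro r hr h
      exact hR _ (Subgroup.mem_subgroupOf.1 hr) (invo_coe.1 h)
    · intro s t hs ht
      obtain ⟨r, hr, hrs⟩ := htr s t (hIX hs) (hIX ht)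
      refine ⟨⟨r, hRX hr⟩, Subgroup.mem_subgroupOf.2 hr, ?_⟩
      exact Subtype.ext hrs
  have hall : ∀ g : G, g ∈ X := central_main hG hCtl hk hno
  -- `Z` is central
  have hZc : ∀ z ∈ Z, ∀ w : G, Commute z w := fun z hz w => mem_CC.1 (hall w) z hz
  haveI hZn : Z.Normal := by
    refine ⟨fun n hn g => ?_⟩
    have h1 : g * n * g⁻¹ = n := by
      have h2 : n * g = g * n := hZc n hn g
      rw [← h2]
      group
    rw [h1]
    exact hn
  have hallI : ∀ {t : G}, Invo t → IX Z t := fun {t} ht => ⟨ht, mem_CC.1 (hall t)⟩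
  have hQ : ∀ i j g : G, Invo i → Invo j → ¬ Commute i j → Commute g i →
      Commute (g * j * g⁻¹) j → g ∈ Z := fun i j g hi hj hij hg hg' =>
    hMax i j g (hallI hi) (hallI hj) hij hg hg'
  obtain ⟨-, -, hperf, F, hF, hFt, hchar, -, ⟨e⟩⟩ :=
    quot_main Z hG hZc hZodd hQ hk.1 hk'.1 hkk hk₂ hk.1 hne hc
  obtain ⟨A, hA, hAf, hAodd, hiso⟩ := lift_direct Z hZc hZodd hperf e
  exact ⟨F, hF, hFt, A, hA, hAf, hchar, hAodd, hiso⟩

/-- **Finite groups with abelian centralisers of involutions**, not the degenerate cases. -/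
theorem main_aci (hG : ACI G) {a b s t : G} (ha : Invo a) (hb : Invo b) (hab : ¬ Commute a b)
    (hs : Invo s) (ht : Invo t) (hst : s ≠ t) (hc : Commute s t) :
    ∃ (F : Type) (_ : Field F) (_ : Fintype F) (A : Type) (_ : CommGroup A) (_ : Finite A),
      CharP F 2 ∧ Odd (Nat.card A) ∧ Nonempty (G ≃* Matrix.SpecialLinearGroup (Fin 2) F × A) := by
  classical
  have hcard := ncard_of_comm hG hs ht hst hc
  have hab' : pt hG a ha ≠ pt hG b hb := fun h => hab ((pt_eq_iff hG ha hb).1 h)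
  -- the extremal pair
  let S : Set (Pt hG × Pt hG) := {p | p.1 ≠ p.2}
  have hSne : S.Nonempty := ⟨(pt hG a ha, pt hG b hb), hab'⟩
  obtain ⟨⟨x, y⟩, hxy, hmax⟩ := Set.exists_max_image S
    (fun p : Pt hG × Pt hG => Nat.card (QQ hG p.1 p.2)) (Set.toFinite S) hSne
  have hxy' : x ≠ y := hxy
  obtain ⟨k, hk⟩ := TT_nonempty hG hxy'
  obtain ⟨k', hk', hne, hcomm⟩ := exists_swap_same hG hxy' (hcard x) hk
  set Z := CD hG x y k with hZ
  have hZcard : Nat.card Z = Nat.card (QQ hG x y) := card_CD hG hxy' hk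
  have hZodd : Odd (Nat.card Z) := by
    have h1 : Z ≤ DD hG x y := inf_le_left
    exact Odd.of_dvd_nat (odd_card_DD hxy') (Subgroup.card_dvd_of_le h1)
  have hkX : IX Z k := ⟨hk.1, fun z hz => ((mem_CD hG).1 hz).2⟩
  have hk'X : IX Z k' := ⟨hk'.1, fun z hz => hcomm z hz⟩
  have hkk : ¬ Commute k k' := not_comm_swaps hG hxy' hk hk' hne
  -- a second involution commuting with `k`
  obtain ⟨k₂, hk₂, hk₂ne⟩ : ∃ k₂ ∈ Ix hG (pt hG k hk.1), k₂ ≠ k := by
    have h1 := hcard (pt hG k hk.1)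
    obtain ⟨b, hb, hbk⟩ := Set.exists_ne_of_one_lt_ncard (by omega : 1 < (Ix hG (pt hG k hk.1)).ncard) k
    exact ⟨b, hb, hbk⟩
  have hk₂c : Commute k₂ k := Ix_comm hG hk₂ (pt_mem_Ix hG hk.1)
  refine main_extremal hG hZodd hkX hk'X hkk (Ix_invo hG hk₂) hk₂ne hk₂c ?_
  -- the maximality
  intro i j g hi hj hij hg hg'
  have hne' : pt hG i hi.1 ≠ pt hG j hj.1 := fun h => hij ((pt_eq_iff hG hi.1 hj.1).1 h)
  have hi' := pt_mem_Ix hG hi.1
  have hj' := pt_mem_Ix hG hj.1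
  have hle : Z ≤ QQ hG (pt hG i hi.1) (pt hG j hj.1) := by
    intro z hz
    rw [mem_QQ]
    refine ⟨(mem_FF hG hi').2 (hi.2 z hz), FF_smul hG ((mem_FF hG hj').2 (hj.2 z hz))⟩
  have hcardle : Nat.card (QQ hG (pt hG i hi.1) (pt hG j hj.1)) ≤ Nat.card Z := by
    rw [hZcard]
    exact hmax (pt hG i hi.1, pt hG j hj.1) hne'
  have heq : Z = QQ hG (pt hG i hi.1) (pt hG j hj.1) := Subgroup.eq_of_le_of_card_ge hle hcardle
  rw [heq, mem_QQ]
  refine ⟨(mem_FF hG hi').2 hg, ?_⟩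
  rw [smul_pt, pt_eq_iff]
  exact hg'

end

end Cfsg.Agent.Lib.Coprime.InvAb
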