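import Cfsg.Agent.Lib.Coprime.InvAb.Local

/-!
# Abelian involution centralisers: the case `C(x) ∩ G_y = 1`

If no non-identity element centralises the involutions at a point and fixes another point, then each
two-point stabiliser `D` is abelian and inverted by the swaps, fixes exactly its two points, and
`C(x)` is regular on the remaining points: `G` is a Zassenhaus group, and it is simple.
-/

set_option autoImplicit false
set_option linter.unusedSectionVars false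

namespace Cfsg.Agent.Lib.Coprime.InvAb

noncomputable section

open MulAction

universe u

variable {G : Type u} [Group G] [Finite G] {hG : ACI G}

instance (hG : ACI G) : Finite (Pt hG) := Quotient.finite _

/-- The triviality hypothesis. -/
def QTriv (hG : ACI G) : Prop := ∀ x y : Pt hG, x ≠ y → ∀ g, g ∈ FF hG x → g • y = y → g = 1

theorem QQ_eq_bot (hQ : QTriv hG) {x y : Pt hG} (hxy : x ≠ y) : QQ hG x y = ⊥ := by
  rw [Subgroup.eq_bot_iff_forall]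
  intro g hg
  rw [mem_QQ] at hg
  exact hQ x y hxy g hg.1 hg.2

theorem card_DD_triv (hQ : QTriv hG) {x y : Pt hG} (hxy : x ≠ y) :
    Nat.card (DD hG x y) = (Ix hG x).ncard := by
  rw [card_DD hG hxy, QQ_eq_bot hQ hxy, Subgroup.card_bot, mul_one]

theorem DD_symm {x y : Pt hG} : DD hG x y = DD hG y x := by
  ext g
  rw [mem_DD, mem_DD]
  exact and_comm

theorem odd_card_DD {x y : Pt hG} (hxy : x ≠ y) : Odd (Nat.card (DD hG x y)) := by
  by_contra h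
  rw [Nat.not_odd_iff_even, even_iff_two_dvd] at h
  have : Fact (Nat.Prime 2) := ⟨Nat.prime_two⟩
  obtain ⟨t, ht⟩ := exists_prime_orderOf_dvd_card' (G := DD hG x y) 2 h
  have ht' : orderOf (t : G) = 2 := by rw [Subgroup.orderOf_coe]; exact ht
  have h1 := (mem_DD hG).1 t.2
  exact not_invo_of_fix hG hxy (invo_of_orderOf ht') h1.1 h1.2

/-- A swap times an element of `D` is a swap. -/
theorem mul_mem_TT (hQ : QTriv hG) {x y : Pt hG} (hxy : x ≠ y) {k d : G} (hk : k ∈ TT hG x y)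
    (hd : d ∈ DD hG x y) : k * d ∈ TT hG x y := by
  obtain ⟨i, hi⟩ := exists_mem_Ix hG x
  have h1 : (fun k' => k * k') '' TT hG x y ⊆ (DD hG x y : Set G) := by
    rintro _ ⟨k', hk', rfl⟩
    exact mul_mem_DD hG hk hk'
  have h2 : ((fun k' => k * k') '' TT hG x y).ncard = (TT hG x y).ncard :=
    Set.ncard_image_of_injective _ (fun a b h => mul_left_cancel h)
  have h3 : ((DD hG x y : Subgroup G) : Set G).ncard = Nat.card (DD hG x y) := by
    rw [← Nat.card_coe_set_eq]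
    rfl
  have h4 : (fun k' => k * k') '' TT hG x y = (DD hG x y : Set G) := by
    apply Set.eq_of_subset_of_ncard_le h1 _ (Set.toFinite _)
    rw [h2, TT_ncard hG hxy hi, h3, card_DD_triv hQ hxy, Ix_ncard_eq hG x y]
  have h5 : d ∈ (fun k' => k * k') '' TT hG x y := by
    rw [h4]
    exact hd
  obtain ⟨k', hk', hk''⟩ := h5
  have h6 : k' = k * d := by
    have hk1 : k * k = 1 := hk.1.2
    calc k' = (k * k) * k' := by rw [hk1, one_mul]
      _ = k * (k * k') := by group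
      _ = k * d := by rw [show k * k' = d from hk'']
  rw [← h6]
  exact hk'

/-- Each swap inverts `D`. -/
theorem swap_inv (hQ : QTriv hG) {x y : Pt hG} (hxy : x ≠ y) {k d : G} (hk : k ∈ TT hG x y)
    (hd : d ∈ DD hG x y) : k * d * k = d⁻¹ := by
  have h1 := (mul_mem_TT hQ hxy hk hd).1.2
  have h2 : k * d * (k * d) = 1 := h1
  have h3 : k * d * k * d = 1 := by rw [← h2]; group
  exact eq_inv_of_mul_eq_one_left h3

/-- `D` is abelian. -/
theorem DD_comm (hQ : QTriv hG) {x y : Pt hG} (hxy : x ≠ y) {a b : G} (ha : a ∈ DD hG x y)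
    (hb : b ∈ DD hG x y) : Commute a b := by
  obtain ⟨k, hk⟩ := TT_nonempty hG hxy
  have h1 := swap_inv hQ hxy hk (Subgroup.mul_mem _ ha hb)
  have h2 := swap_inv hQ hxy hk ha
  have h3 := swap_inv hQ hxy hk hb
  have h4 : k * (a * b) * k = (k * a * k) * (k * b * k) := by
    calc k * (a * b) * k = k * a * 1 * b * k := by group
      _ = k * a * (k * k) * b * k := by rw [hk.1.2]
      _ = _ := by group
  rw [h4, h2, h3, mul_inv_rev] at h1
  -- `a⁻¹ b⁻¹ = b⁻¹ a⁻¹`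
  have h5 : Commute a⁻¹ b⁻¹ := h1
  have := h5.inv_inv
  simpa using this

/-- Decomposition of the point stabiliser. -/
theorem exists_decomp {x y : Pt hG} (hxy : x ≠ y) {g : G} (hg : g • x = x) :
    ∃ f ∈ FF hG x, ∃ d ∈ DD hG x y, g = f * d := by
  obtain ⟨i, hi⟩ := exists_mem_Ix hG x
  obtain ⟨d, hd, hdi⟩ := DD_trans hG hxy hi (conj_mem_Ix_of_fix hG hg hi)
  have hdx := ((mem_DD hG).1 hd).1
  have he : d⁻¹ * g ∈ FF hG x := by
    apply mem_FF_of_comm hG hi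
    calc d⁻¹ * g * i * (d⁻¹ * g)⁻¹ = d⁻¹ * (g * i * g⁻¹) * d := by group
      _ = d⁻¹ * (d * i * d⁻¹) * d := by rw [hdi]
      _ = i := by group
  refine ⟨d * (d⁻¹ * g) * d⁻¹, conj_mem_FF' hG he hdx, d, hd, by group⟩

/-- Powers in the point stabiliser. -/
theorem pow_card_mem_FF {x y : Pt hG} (hxy : x ≠ y) {g : G} (hg : g • x = x) :
    g ^ Nat.card (DD hG x y) ∈ FF hG x := by
  obtain ⟨f, hf, d, hd, rfl⟩ := exists_decomp hxy hg
  have hdx := ((mem_DD hG).1 hd).1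
  have key : ∀ n : ℕ, ∃ f' ∈ FF hG x, (f * d) ^ n = f' * d ^ n := by
    intro n
    induction n with
    | zero => exact ⟨1, Subgroup.one_mem _, by simp⟩
    | succ n ih =>
      obtain ⟨f', hf', h⟩ := ih
      have hdn : d ^ n • x = x := by
        exact MulAction.mem_stabilizer_iff.mp
          (Subgroup.pow_mem _ (MulAction.mem_stabilizer_iff.mpr hdx) n)
      refine ⟨f' * (d ^ n * f * (d ^ n)⁻¹), Subgroup.mul_mem _ hf' (conj_mem_FF' hG hf hdn), ?_⟩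
      rw [pow_succ, h, pow_succ]
      group
  obtain ⟨f', hf', h⟩ := key (Nat.card (DD hG x y))
  have h1 : d ^ Nat.card (DD hG x y) = 1 :=
    orderOf_dvd_iff_pow_eq_one.mp (Subgroup.orderOf_dvd_natCard _ hd)
  rw [h, h1, mul_one]
  exact hf'

/-- Conjugation by an odd power of an inverting element. -/
theorem conj_odd_pow {g d : G} (h : g * d * g⁻¹ = d⁻¹) {m : ℕ} (hm : Odd m) :
    g ^ m * d * (g ^ m)⁻¹ = d⁻¹ := by
  obtain ⟨l, rfl⟩ := hm
  have hinv : g * d⁻¹ * g⁻¹ = d := by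
    have : g * d⁻¹ * g⁻¹ = (g * d * g⁻¹)⁻¹ := by group
    rw [this, h, inv_inv]
  have h2 : ∀ l : ℕ, g ^ (2 * l) * d * (g ^ (2 * l))⁻¹ = d := by
    intro l
    induction l with
    | zero => simp
    | succ l ih =>
      have h3 : g ^ (2 * (l + 1)) = g ^ (2 * l) * (g * g) := by
        rw [mul_add, pow_add, mul_one, pow_two]
      have h4 : g ^ (2 * l) * (g * g) = (g * g) * g ^ (2 * l) := by
        rw [← pow_two, ← pow_add, ← pow_add, add_comm]
      rw [h3, h4]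
      calc g * g * g ^ (2 * l) * d * (g * g * g ^ (2 * l))⁻¹
          = g * (g * (g ^ (2 * l) * d * (g ^ (2 * l))⁻¹) * g⁻¹) * g⁻¹ := by group
        _ = g * (g * d * g⁻¹) * g⁻¹ := by rw [ih]
        _ = g * d⁻¹ * g⁻¹ := by rw [h]
        _ = d := hinv
  rw [pow_succ]
  calc g ^ (2 * l) * g * d * (g ^ (2 * l) * g)⁻¹
      = g ^ (2 * l) * (g * d * g⁻¹) * (g ^ (2 * l))⁻¹ := by group
    _ = g ^ (2 * l) * d⁻¹ * (g ^ (2 * l))⁻¹ := by rw [h]
    _ = (g ^ (2 * l) * d * (g ^ (2 * l))⁻¹)⁻¹ := by group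
    _ = d⁻¹ := by rw [h2]

/-- An element of the stabiliser which is inverted in the stabiliser lies in `F`. -/
theorem mem_FF_of_inverted {x y : Pt hG} (hxy : x ≠ y) {g d : G} (hg : g • x = x) (hd : d • x = x)
    (h : g * d * g⁻¹ = d⁻¹) : d ∈ FF hG x := by
  set m := Nat.card (DD hG x y) with hm
  have hodd : Odd m := odd_card_DD hxy
  have h1 : g ^ m ∈ FF hG x := pow_card_mem_FF hxy hg
  have h2 : d ^ m ∈ FF hG x := pow_card_mem_FF hxy hd
  have h3 := conj_odd_pow h hodd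
  -- `d⁻² ∈ F`
  have h4 : d⁻¹ * d⁻¹ ∈ FF hG x := by
    have h5 : d⁻¹ * d⁻¹ = g ^ m * (d * (g ^ m)⁻¹ * d⁻¹) := by
      calc d⁻¹ * d⁻¹ = (g ^ m * d * (g ^ m)⁻¹) * d⁻¹ := by rw [h3]
        _ = _ := by group
    rw [h5]
    exact Subgroup.mul_mem _ h1 (conj_mem_FF' hG (Subgroup.inv_mem _ h1) hd)
  obtain ⟨l, hl⟩ := hodd
  have h6 : d = d ^ m * (d⁻¹ * d⁻¹) ^ l := by
    rw [hl]
    have h7 : d⁻¹ * d⁻¹ = (d ^ 2)⁻¹ := by rw [pow_two]; group
    rw [h7, inv_pow, ← pow_mul, pow_succ]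
    group
  rw [h6]
  exact Subgroup.mul_mem _ h2 (Subgroup.pow_mem _ h4 _)

/-- **A non-identity element of `D` fixes exactly two points.** -/
theorem fix_two (hQ : QTriv hG) {x y z : Pt hG} (hxy : x ≠ y) {d : G} (hd : d ∈ DD hG x y)
    (hd1 : d ≠ 1) (hzx : z ≠ x) (hzy : z ≠ y) : d • z ≠ z := by
  intro hz
  have hdD := (mem_DD hG).1 hd
  obtain ⟨k, hk⟩ := TT_nonempty hG hxy
  obtain ⟨k', hk'⟩ := TT_nonempty hG hzx.symm
  obtain ⟨k'', hk''⟩ := TT_nonempty hG hzy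
  have h1 := swap_inv hQ hxy hk hd
  have h2 := swap_inv hQ hzx.symm hk' ((mem_DD hG).2 ⟨hdD.1, hz⟩)
  have h3 := swap_inv hQ hzy hk'' ((mem_DD hG).2 ⟨hz, hdD.2⟩)
  have h1' : k * d⁻¹ * k = d := by
    have : k * d⁻¹ * k = (k * d * k)⁻¹ := by
      rw [mul_inv_rev, mul_inv_rev, hk.1.inv_eq]
      group
    rw [this, h1, inv_inv]
  have hg : (k' * k * k'') • z = z := by
    rw [mul_smul, mul_smul, hk''.2, TT_swap hG hk, hk'.2]
  have hinv : (k' * k * k'') * d * (k' * k * k'')⁻¹ = d⁻¹ := by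
    rw [mul_inv_rev, mul_inv_rev, hk'.1.inv_eq, hk.1.inv_eq, hk''.1.inv_eq]
    calc k' * k * k'' * d * (k'' * (k * k')) = k' * (k * (k'' * d * k'') * k) * k' := by group
      _ = k' * (k * d⁻¹ * k) * k' := by rw [h3]
      _ = k' * d * k' := by rw [h1']
      _ = d⁻¹ := h2
  have hF := mem_FF_of_inverted hzy hg hz hinv
  exact hd1 (hQ z y hzy d hF hdD.2)

/-- The centraliser of a non-identity element of `D` in `F` is trivial. -/
theorem FF_comm_eq_one (hQ : QTriv hG) {x y : Pt hG} (hxy : x ≠ y) {d c : G} (hd : d ∈ DD hG x y)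
    (hd1 : d ≠ 1) (hc : c ∈ FF hG x) (hcd : Commute c d) : c = 1 := by
  have hdD := (mem_DD hG).1 hd
  have hcx := FF_smul hG hc
  have h1 : c • y ≠ x := by
    intro h
    apply hxy.symm
    rw [← hcx] at h
    exact smul_left_cancel _ h
  have h2 : d • (c • y) = c • y := by
    rw [← mul_smul, ← (hcd : c * d = d * c), mul_smul, hdD.2]
  by_cases h3 : c • y = y
  · exact hQ x y hxy c hc h3
  · exact absurd h2 (fix_two hQ hxy hd hd1 h1 h3)

/-- **`F` is fixed-point-freely acted on by `D`: each element is a commutator.** -/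
theorem exists_comm_eq (hQ : QTriv hG) {x y : Pt hG} (hxy : x ≠ y) {d f : G} (hd : d ∈ DD hG x y)
    (hd1 : d ≠ 1) (hf : f ∈ FF hG x) : ∃ f₁ ∈ FF hG x, f = f₁ * d * f₁⁻¹ * d⁻¹ := by
  have hdD := (mem_DD hG).1 hd
  let θ : FF hG x → FF hG x := fun a =>
    ⟨a.1 * (d * a.1⁻¹ * d⁻¹), Subgroup.mul_mem _ a.2
      (conj_mem_FF' hG (Subgroup.inv_mem _ a.2) hdD.1)⟩
  have hθ : Function.Injective θ := by
    intro a b hab
    have h1 : a.1 * (d * a.1⁻¹ * d⁻¹) = b.1 * (d * b.1⁻¹ * d⁻¹) := congrArg Subtype.val hab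
    -- `c = b⁻¹ a` commutes with `d`
    have hab' : Commute a.1 b.1 := FF_comm hG a.2 b.2
    have hc : b.1⁻¹ * a.1 ∈ FF hG x := Subgroup.mul_mem _ (Subgroup.inv_mem _ b.2) a.2
    have hcd : Commute (b.1⁻¹ * a.1) d := by
      have hm1 : d * a.1⁻¹ * d⁻¹ ∈ FF hG x := conj_mem_FF' hG (Subgroup.inv_mem _ a.2) hdD.1
      have hm2 : d * b.1⁻¹ * d⁻¹ ∈ FF hG x := conj_mem_FF' hG (Subgroup.inv_mem _ b.2) hdD.1
      have h2 : b.1⁻¹ * a.1 = (d * b.1⁻¹ * d⁻¹) * (d * a.1⁻¹ * d⁻¹)⁻¹ := by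
        have h3 : (d * a.1⁻¹ * d⁻¹)⁻¹ = d * a.1 * d⁻¹ := by group
        have hcomm : Commute b.1⁻¹ (d * b.1⁻¹ * d⁻¹) :=
          FF_comm hG (Subgroup.inv_mem _ b.2) hm2
        calc b.1⁻¹ * a.1 = b.1⁻¹ * (a.1 * (d * a.1⁻¹ * d⁻¹)) * (d * a.1⁻¹ * d⁻¹)⁻¹ := by group
          _ = b.1⁻¹ * (b.1 * (d * b.1⁻¹ * d⁻¹)) * (d * a.1⁻¹ * d⁻¹)⁻¹ := by rw [h1]
          _ = _ := by group
      show (b.1⁻¹ * a.1) * d = d * (b.1⁻¹ * a.1)
      have h4 : d * (b.1⁻¹ * a.1) * d⁻¹ = b.1⁻¹ * a.1 := by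
        -- conjugate of `c` by `d` equals `c`: from `c = d b⁻¹ d⁻¹ * d a d⁻¹ = d (b⁻¹ a) d⁻¹`
        have h3 : (d * a.1⁻¹ * d⁻¹)⁻¹ = d * a.1 * d⁻¹ := by group
        rw [h3] at h2
        calc d * (b.1⁻¹ * a.1) * d⁻¹ = d * b.1⁻¹ * d⁻¹ * (d * a.1 * d⁻¹) := by group
          _ = b.1⁻¹ * a.1 := h2.symm
      calc b.1⁻¹ * a.1 * d = (d * (b.1⁻¹ * a.1) * d⁻¹) * d := by rw [h4]
        _ = d * (b.1⁻¹ * a.1) := by group
    have h5 := FF_comm_eq_one hQ hxy hd hd1 hc hcd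
    apply Subtype.ext
    have h6 : a.1 = b.1 * (b.1⁻¹ * a.1) := by group
    rw [h6, h5, mul_one]
  have hsurj := Finite.surjective_of_injective hθ
  obtain ⟨a, ha⟩ := hsurj ⟨f, hf⟩
  refine ⟨a.1, a.2, ?_⟩
  have h1 : a.1 * (d * a.1⁻¹ * d⁻¹) = f := congrArg Subtype.val ha
  rw [← h1]
  group

/-- A Frobenius property: every element of `G_x` outside `F` fixes a second point. -/
theorem exists_fix (hQ : QTriv hG) {x y : Pt hG} (hxy : x ≠ y) {g : G} (hg : g • x = x)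
    (hgF : g ∉ FF hG x) : ∃ f₁ ∈ FF hG x, g • (f₁ • y) = f₁ • y := by
  obtain ⟨f, hf, d, hd, rfl⟩ := exists_decomp hxy hg
  have hd1 : d ≠ 1 := by
    rintro rfl
    apply hgF
    simpa using hf
  obtain ⟨f₁, hf₁, hff⟩ := exists_comm_eq hQ hxy hd hd1 hf
  refine ⟨f₁, hf₁, ?_⟩
  have h1 : f * d = f₁ * d * f₁⁻¹ := by rw [hff]; group
  rw [h1, mul_smul, mul_smul, inv_smul_smul, ((mem_DD hG).1 hd).2]

theorem smul_ne_of_FF {x y : Pt hG} (hxy : x ≠ y) {f : G} (hf : f ∈ FF hG x) : f • y ≠ x := by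
  intro h
  apply hxy.symm
  rw [← FF_smul hG hf] at h
  exact smul_left_cancel _ h

theorem exists_ne_one_DD (hQ : QTriv hG) (hcard : ∀ x : Pt hG, 2 ≤ (Ix hG x).ncard) {x y : Pt hG}
    (hxy : x ≠ y) : ∃ d ∈ DD hG x y, d ≠ 1 := by
  have h1 : 1 < Nat.card (DD hG x y) := by
    rw [card_DD_triv hQ hxy]
    exact hcard x
  have : Nontrivial (DD hG x y) := Finite.one_lt_card_iff_nontrivial.mp h1
  obtain ⟨d, hd⟩ := exists_ne (1 : DD hG x y)
  exact ⟨d.1, d.2, fun h => hd (Subtype.ext h)⟩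

theorem not_mem_FF_of_DD (hQ : QTriv hG) {x y : Pt hG} (hxy : x ≠ y) {d : G} (hd : d ∈ DD hG x y)
    (hd1 : d ≠ 1) : d ∉ FF hG x := fun h => hd1 (hQ x y hxy d h ((mem_DD hG).1 hd).2)

/-- **`F` is transitive on the remaining points.** -/
theorem FF_trans (hQ : QTriv hG) (hcard : ∀ x : Pt hG, 2 ≤ (Ix hG x).ncard) {x y y' : Pt hG}
    (hxy : x ≠ y) (hxy' : x ≠ y') : ∃ f ∈ FF hG x, f • y = y' := by
  obtain ⟨d, hd, hd1⟩ := exists_ne_one_DD hQ hcard hxy'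
  have hdD := (mem_DD hG).1 hd
  obtain ⟨f₁, hf₁, h1⟩ := exists_fix hQ hxy hdD.1 (not_mem_FF_of_DD hQ hxy' hd hd1)
  refine ⟨f₁, hf₁, ?_⟩
  by_contra h2
  exact fix_two hQ hxy' hd hd1 (smul_ne_of_FF hxy hf₁) h2 h1

/-- `|F| + 1` is the number of points. -/
theorem card_FF_add_one (hQ : QTriv hG) (hcard : ∀ x : Pt hG, 2 ≤ (Ix hG x).ncard) {x y : Pt hG}
    (hxy : x ≠ y) : Nat.card (FF hG x) + 1 = Nat.card (Pt hG) := by
  classical
  let φ : FF hG x → {z : Pt hG // z ≠ x} := fun f => ⟨f.1 • y, smul_ne_of_FF hxy f.2⟩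
  have hφ : Function.Bijective φ := by
    constructor
    · intro a b hab
      have h1 : a.1 • y = b.1 • y := congrArg Subtype.val hab
      have h2 : (b.1⁻¹ * a.1) • y = y := by
        rw [mul_smul, h1, inv_smul_smul]
      have h3 := hQ x y hxy _ (Subgroup.mul_mem _ (Subgroup.inv_mem _ b.2) a.2) h2
      apply Subtype.ext
      have h4 : a.1 = b.1 * (b.1⁻¹ * a.1) := by group
      rw [h4, h3, mul_one]
    · rintro ⟨z, hz⟩
      obtain ⟨f, hf, h⟩ := FF_trans hQ hcard hxy (Ne.symm hz)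
      exact ⟨⟨f, hf⟩, Subtype.ext h⟩
  have h1 := Nat.card_congr (Equiv.ofBijective φ hφ)
  rw [h1]
  have := Fintype.ofFinite (Pt hG)
  have h2 : Nat.card {z : Pt hG // z ≠ x} + 1 = Nat.card (Pt hG) := by
    have h3 := Fintype.card_subtype_compl (fun z : Pt hG => z = x)
    rw [Nat.card_eq_fintype_card, Nat.card_eq_fintype_card, h3]
    have h4 : Fintype.card {z : Pt hG // z = x} = 1 := Fintype.card_subtype_eq x
    rw [h4]
    have h5 : 0 < Fintype.card (Pt hG) := Fintype.card_pos_iff.mpr ⟨x⟩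
    omega
  exact h2

/-- Two-transitivity. -/
theorem two_trans (hQ : QTriv hG) (hcard : ∀ x : Pt hG, 2 ≤ (Ix hG x).ncard) {x y x' y' : Pt hG}
    (hxy : x ≠ y) (hxy' : x' ≠ y') : ∃ g : G, g • x = x' ∧ g • y = y' := by
  obtain ⟨g, rfl⟩ := MulAction.exists_smul_eq G x x'
  have h1 : x ≠ g⁻¹ • y' := by
    intro h
    apply hxy'
    rw [h, smul_inv_smul]
  obtain ⟨f, hf, h2⟩ := FF_trans hQ hcard hxy h1
  refine ⟨g * f, ?_, ?_⟩
  · rw [mul_smul, FF_smul hG hf]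
  · rw [mul_smul, h2, smul_inv_smul]

/-- A third point. -/
theorem exists_third (hQ : QTriv hG) {x y : Pt hG} (hxy : x ≠ y) : ∃ z : Pt hG, z ≠ x ∧ z ≠ y := by
  obtain ⟨i, hi⟩ := exists_mem_Ix hG x
  refine ⟨i • y, smul_ne_of_FF hxy (Ix_le_FF hG hi), ?_⟩
  intro h
  exact (Ix_invo hG hi).1 (hQ x y hxy i (Ix_le_FF hG hi) h)

theorem eq_one_of_three (hQ : QTriv hG) {g : G} {a b c : Pt hG} (hab : a ≠ b) (hbc : b ≠ c)
    (hac : a ≠ c) (ha : g • a = a) (hb : g • b = b) (hc : g • c = c) : g = 1 := by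
  by_contra h
  exact fix_two hQ hab ((mem_DD hG).2 ⟨ha, hb⟩) h hac.symm hbc.symm hc

/-- Faithfulness. -/
theorem faithful (hQ : QTriv hG) {x y : Pt hG} (hxy : x ≠ y) : FaithfulSMul G (Pt hG) := by
  refine ⟨?_⟩
  intro g g' h
  obtain ⟨z, hz1, hz2⟩ := exists_third hQ hxy
  have key : ∀ w : Pt hG, (g'⁻¹ * g) • w = w := by
    intro w
    rw [mul_smul, h, inv_smul_smul]
  have := eq_one_of_three hQ hxy hz2.symm hz1.symm (key _) (key _) (key _)
  have h3 : g = g' * (g'⁻¹ * g) := by group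
  rw [h3, this, mul_one]

/-- `F` consists of commutators. -/
theorem FF_le_commutator (hQ : QTriv hG) (hcard : ∀ x : Pt hG, 2 ≤ (Ix hG x).ncard) {x y : Pt hG}
    (hxy : x ≠ y) {f : G} (hf : f ∈ FF hG x) : f ∈ commutator G := by
  obtain ⟨d, hd, hd1⟩ := exists_ne_one_DD hQ hcard hxy
  obtain ⟨f₁, -, h⟩ := exists_comm_eq hQ hxy hd hd1 hf
  rw [h]
  exact Subgroup.commutator_mem_commutator (Subgroup.mem_top _) (Subgroup.mem_top _)

/-- `D` consists of commutators. -/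
theorem DD_le_commutator (hQ : QTriv hG) {x y : Pt hG} (hxy : x ≠ y) {d : G} (hd : d ∈ DD hG x y) :
    d ∈ commutator G := by
  obtain ⟨k, hk⟩ := TT_nonempty hG hxy
  have hdD := (mem_DD hG).1 hd
  obtain ⟨l, hl⟩ := odd_of_fix hG hxy hdD.1 hdD.2
  have hgm : d ^ (2 * l + 1) = 1 := by rw [← hl, pow_orderOf_eq_one]
  have h1 : d ^ l ∈ DD hG x y := Subgroup.pow_mem _ hd l
  have h2 : k * d ^ l * k = (d ^ l)⁻¹ := swap_inv hQ hxy hk h1
  have h3 : d = k * d ^ l * k⁻¹ * (d ^ l)⁻¹ := by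
    rw [hk.1.inv_eq, h2]
    have h4 : (d ^ l)⁻¹ * (d ^ l)⁻¹ = (d ^ (2 * l))⁻¹ := by
      rw [two_mul, pow_add, mul_inv_rev]
    rw [h4]
    have h5 : d ^ (2 * l) * d = 1 := by rw [← pow_succ]; exact hgm
    exact eq_inv_of_mul_eq_one_right h5
  rw [h3]
  exact Subgroup.commutator_mem_commutator (Subgroup.mem_top _) (Subgroup.mem_top _)

/-- The group is perfect. -/
theorem commutator_eq_top (hQ : QTriv hG) (hcard : ∀ x : Pt hG, 2 ≤ (Ix hG x).ncard) {x y : Pt hG}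
    (hxy : x ≠ y) : commutator G = ⊤ := by
  rw [eq_top_iff]
  intro g _
  have hstab : ∀ s : G, s • x = x → s ∈ commutator G := by
    intro s hs
    obtain ⟨f, hf, d, hd, rfl⟩ := exists_decomp hxy hs
    exact Subgroup.mul_mem _ (FF_le_commutator hQ hcard hxy hf) (DD_le_commutator hQ hxy hd)
  by_cases h : g • x = x
  · exact hstab g h
  · obtain ⟨k, hk⟩ := TT_nonempty hG (Ne.symm h)
    have hk1 : k ∈ commutator G :=
      FF_le_commutator hQ hcard (ne_pt_of_TT hG (Ne.symm h) hk) (Ix_le_FF hG (pt_mem_Ix hG hk.1))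
    have hk2 : k * g ∈ commutator G := by
      apply hstab
      rw [mul_smul]
      exact TT_swap hG hk
    have h3 : g = k * (k * g) := by
      rw [← mul_assoc, hk.1.2, one_mul]
    rw [h3]
    exact Subgroup.mul_mem _ hk1 hk2

/-- Commutators in the point stabiliser lie in `F`. -/
theorem commutator_stab_mem (hQ : QTriv hG) {x y : Pt hG} (hxy : x ≠ y) {a b : G} (ha : a • x = x)
    (hb : b • x = x) : a * b * a⁻¹ * b⁻¹ ∈ FF hG x := by
  obtain ⟨f₁, hf₁, d₁, hd₁, rfl⟩ := exists_decomp hxy ha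
  obtain ⟨f₂, hf₂, d₂, hd₂, rfl⟩ := exists_decomp hxy hb
  have h1 : d₁ * d₂ = d₂ * d₁ := DD_comm hQ hxy hd₁ hd₂
  have hd₁x := ((mem_DD hG).1 hd₁).1
  have hd₂x := ((mem_DD hG).1 hd₂).1
  have h2 : f₁ * d₁ * (f₂ * d₂) * (f₁ * d₁)⁻¹ * (f₂ * d₂)⁻¹
      = f₁ * (d₁ * f₂ * d₁⁻¹) * (f₂ * (d₂ * f₁ * d₂⁻¹))⁻¹ := by
    have h3 : (f₁ * d₁) * (f₂ * d₂) = f₁ * (d₁ * f₂ * d₁⁻¹) * (d₁ * d₂) := by group
    have h4 : (f₂ * d₂) * (f₁ * d₁) = f₂ * (d₂ * f₁ * d₂⁻¹) * (d₂ * d₁) := by group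
    calc f₁ * d₁ * (f₂ * d₂) * (f₁ * d₁)⁻¹ * (f₂ * d₂)⁻¹
        = ((f₁ * d₁) * (f₂ * d₂)) * ((f₂ * d₂) * (f₁ * d₁))⁻¹ := by group
      _ = _ := by
        rw [h3, h4, h1]
        group
  rw [h2]
  exact Subgroup.mul_mem _ (Subgroup.mul_mem _ hf₁ (conj_mem_FF' hG hf₂ hd₁x))
    (Subgroup.inv_mem _ (Subgroup.mul_mem _ hf₂ (conj_mem_FF' hG hf₁ hd₂x)))

/-- **The group is simple.** -/
theorem isSimple (hQ : QTriv hG) (hcard : ∀ x : Pt hG, 2 ≤ (Ix hG x).ncard) {x y : Pt hG}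
    (hxy : x ≠ y) : IsSimpleGroup G := by
  have hfaith := faithful hQ hxy
  have hperf := commutator_eq_top hQ hcard hxy
  obtain ⟨i, hi⟩ := exists_mem_Ix hG x
  have : Nontrivial G := ⟨⟨i, 1, (Ix_invo hG hi).1⟩⟩
  refine ⟨?_⟩
  intro N hN
  rcases Subgroup.bot_or_exists_ne_one N with hbot | ⟨g, hg, hg1⟩
  · exact Or.inl hbot
  right
  -- `g` moves a point
  obtain ⟨x₀, hx₀⟩ : ∃ x₀ : Pt hG, g • x₀ ≠ x₀ := by
    by_contra h
    push Not at h
    apply hg1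
    apply hfaith.eq_of_smul_eq_smul
    intro a
    rw [h a, one_smul]
  have htrans : ∀ a b : Pt hG, ∃ n ∈ N, n • a = b := by
    intro a b
    by_cases hab : a = b
    · exact ⟨1, Subgroup.one_mem _, by rw [hab, one_smul]⟩
    · obtain ⟨h, h1, h2⟩ := two_trans hQ hcard (Ne.symm hx₀) hab
      refine ⟨h * g * h⁻¹, hN.conj_mem g hg h, ?_⟩
      rw [mul_smul, mul_smul, ← h1, inv_smul_smul, h2]
  let φ : G →* G ⧸ N := QuotientGroup.mk' N
  have hφN : ∀ n ∈ N, φ n = 1 := fun n hn => (QuotientGroup.eq_one_iff n).2 hn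
  have hdec : ∀ a : G, ∃ s : G, s • x = x ∧ φ a = φ s := by
    intro a
    obtain ⟨n, hn, h⟩ := htrans x (a • x)
    refine ⟨n⁻¹ * a, ?_, ?_⟩
    · rw [mul_smul, ← h, inv_smul_smul]
    · rw [map_mul, map_inv, hφN n hn, inv_one, one_mul]
  have hmapc : ∀ a b a' b' : G, φ a = φ a' → φ b = φ b' →
      φ (a * b * a⁻¹ * b⁻¹) = φ (a' * b' * a'⁻¹ * b'⁻¹) := by
    intro a b a' b' h1 h2
    simp only [map_mul, map_inv, h1, h2]
  let K₁ : Subgroup (G ⧸ N) := (FF hG x).map φ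
  have step1 : ∀ a b : G, φ (a * b * a⁻¹ * b⁻¹) ∈ K₁ := by
    intro a b
    obtain ⟨s₁, hs₁, h1⟩ := hdec a
    obtain ⟨s₂, hs₂, h2⟩ := hdec b
    rw [hmapc a b s₁ s₂ h1 h2]
    exact ⟨_, commutator_stab_mem hQ hxy hs₁ hs₂, rfl⟩
  have step2 : commutator G ≤ K₁.comap φ := by
    rw [commutator_def, Subgroup.commutator_le]
    intro a _ b _
    exact step1 a b
  have step3 : ∀ a : G, φ a ∈ K₁ := by
    intro a
    have : a ∈ commutator G := by rw [hperf]; exact Subgroup.mem_top a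
    exact step2 this
  have step4 : ∀ a b : G, a * b * a⁻¹ * b⁻¹ ∈ N := by
    intro a b
    obtain ⟨f₁, hf₁, h1⟩ := step3 a
    obtain ⟨f₂, hf₂, h2⟩ := step3 b
    rw [← QuotientGroup.eq_one_iff]
    have h3 := hmapc a b f₁ f₂ h1.symm h2.symm
    have h4 : f₁ * f₂ * f₁⁻¹ * f₂⁻¹ = 1 := by
      have h5 : f₁ * f₂ = f₂ * f₁ := FF_comm hG hf₁ hf₂
      rw [h5]
      group
    rw [h4, map_one] at h3
    exact h3
  rw [eq_top_iff, ← hperf, commutator_def, Subgroup.commutator_le]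
  intro a _ b _
  exact step4 a b

end

end Cfsg.Agent.Lib.Coprime.InvAb
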