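import Cfsg.Agent.Lib.Coprime.InvAb.Triv
import Cfsg.Agent.Lib.Zass.Rows5
import Cfsg.Agent.S0727
import Cfsg.Agent.S0265

/-!
# Abelian involution centralisers: the case `C(x) ∩ G_y = 1`, conclusion

Feit's inequality for Zassenhaus groups with an abelian kernel shows `C(x)` is elementary abelian,
with `D` regular on its non-identity elements. The group is sharply three-transitive, hence
`PGL(2, F) = SL(2, F)`.
-/

set_option autoImplicit false
set_option linter.unusedSectionVars false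

namespace Cfsg.Agent.Lib.Coprime.InvAb

noncomputable section

open MulAction

universe u

section PGL

open Matrix Matrix.SpecialLinearGroup
open scoped MatrixGroups

/-- In characteristic two, `SL(2, F) = PGL(2, F)`. -/
theorem sl2_equiv_pgl {F : Type*} [Field F] [Fintype F] [CharP F 2] :
    Nonempty (SL(2, F) ≃* Matrix.ProjGenLinGroup (Fin 2) F) := by
  classical
  let φ : SL(2, F) →* Matrix.ProjGenLinGroup (Fin 2) F :=
    (Matrix.ProjGenLinGroup.mk).comp (Matrix.SpecialLinearGroup.toGL)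
  have hinj : Function.Injective φ := by
    rw [injective_iff_map_eq_one]
    intro s hs
    have h1 : (Matrix.SpecialLinearGroup.toGL s) ∈ Subgroup.center (GL (Fin 2) F) :=
      Matrix.ProjGenLinGroup.mk_eq_one.1 hs
    rw [Matrix.GeneralLinearGroup.center_eq_range_scalar] at h1
    obtain ⟨u, hu⟩ := h1
    have h2 : ∀ i j, s.1 i j = if i = j then (u : F) else 0 := by
      intro i j
      have h3 := congrArg (fun g : GL (Fin 2) F => (g : Matrix (Fin 2) (Fin 2) F) i j) hu
      simpa [Matrix.scalar_apply, Matrix.diagonal_apply] using h3.symm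
    have hdet : s.1.det = 1 := s.2
    rw [Matrix.det_fin_two] at hdet
    simp only [h2] at hdet
    simp at hdet
    have h4 : (u : F) = 1 := by
      have h5 : ((u : F) - 1) * ((u : F) - 1) = 0 := by
        have h6 : (2 : F) = 0 := by exact_mod_cast CharP.cast_eq_zero F 2
        linear_combination hdet - (u : F) * h6 + h6
      have h7 := mul_self_eq_zero.mp h5
      exact sub_eq_zero.mp h7
    apply Subtype.ext
    ext i j
    rw [h2, h4]
    simp [Matrix.one_apply]
  have hcard := Cfsg.Agent.S0265.result (F := F) 2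
  have : Finite (Matrix.ProjGenLinGroup (Fin 2) F) :=
    Finite.of_surjective _ (Matrix.ProjGenLinGroup.mk_surjective)
  have hbij : Function.Bijective φ :=
    (Nat.bijective_iff_injective_and_card φ).mpr ⟨hinj, hcard.symm⟩
  exact ⟨MulEquiv.ofBijective φ hbij⟩

end PGL

variable {G : Type u} [Group G] [Finite G] {hG : ACI G}

theorem card_sub_eq (H : Subgroup G) : Nat.card H = (H : Set G).ncard := by
  rw [← Nat.card_coe_set_eq]
  rfl

/-- An element with only the fixed point `x` lies in `F`. -/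
theorem mem_FF_of_only_fix (hQ : QTriv hG) {x y : Pt hG} (hxy : x ≠ y) {g : G} (hg : g • x = x)
    (honly : ∀ c, g • c = c → c = x) : g ∈ FF hG x := by
  by_contra h
  obtain ⟨f₁, hf₁, h1⟩ := exists_fix hQ hxy hg h
  exact smul_ne_of_FF hxy hf₁ (honly _ h1)

/-- The Zassenhaus structure. -/
theorem isZass (hQ : QTriv hG) (hcard : ∀ x : Pt hG, 2 ≤ (Ix hG x).ncard) {x y : Pt hG}
    (hxy : x ≠ y) : Cfsg.IsZassenhausGroup G (Pt hG) := by
  have hsimple := isSimple hQ hcard hxy
  refine ⟨faithful hQ hxy, ?_, ?_, ?_, ?_⟩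
  · rw [MulAction.is_two_pretransitive_iff]
    intro a b c d hab hcd
    exact two_trans hQ hcard hab hcd
  · intro g a b c hab hbc hac ha hb hc
    exact eq_one_of_three hQ hab hbc hac ha hb hc
  · obtain ⟨d, hd, hd1⟩ := exists_ne_one_DD hQ hcard hxy
    exact ⟨d, hd1, x, y, hxy, ((mem_DD hG).1 hd).1, ((mem_DD hG).1 hd).2⟩
  · intro N hN htr
    refine ⟨x, ?_⟩
    rcases hsimple.eq_bot_or_eq_top_of_normal N hN with rfl | rfl
    · exfalso
      obtain ⟨g, hg⟩ := htr.exists_smul_eq x y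
      apply hxy
      have h1 : (g : G) = 1 := by
        have := g.2
        rwa [Subgroup.mem_bot] at this
      have h2 : (g : G) • x = y := hg
      rw [h1, one_smul] at h2
      exact h2
    · obtain ⟨i, hi⟩ := exists_mem_Ix hG x
      intro hbot
      have h1 : (⟨i, Subgroup.mem_top i⟩ : (⊤ : Subgroup G)) ∈
          MulAction.stabilizer (⊤ : Subgroup G) x := by
        rw [MulAction.mem_stabilizer_iff]
        exact FF_smul hG (Ix_le_FF hG hi)
      rw [hbot, Subgroup.mem_bot] at h1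
      exact (Ix_invo hG hi).1 (congrArg Subtype.val h1)

/-- Feit's inequality. -/
theorem card_FF_le (hQ : QTriv hG) (hcard : ∀ x : Pt hG, 2 ≤ (Ix hG x).ncard) {x y : Pt hG}
    (hxy : x ≠ y) : Nat.card (FF hG x) ≤ 2 * (Ix hG x).ncard + 1 := by
  classical
  have hZ := isZass hQ hcard hxy
  have hsimple := isSimple hQ hcard hxy
  have := Fintype.ofFinite G
  have := Fintype.ofFinite (Pt hG)
  have hodd : Odd (Nat.card ↥(stabilizer G x ⊓ stabilizer G y : Subgroup G)) := odd_card_DD hxy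
  have hc : ∀ u ∈ Cfsg.Agent.Lib.Zass.Basic.kernel hZ x,
      ∀ v ∈ Cfsg.Agent.Lib.Zass.Basic.kernel hZ x, u * v = v * u := by
    have hk : ∀ u ∈ Cfsg.Agent.Lib.Zass.Basic.kernel hZ x, u ∈ FF hG x := by
      intro u hu
      by_cases hu1 : u = 1
      · rw [hu1]
        exact Subgroup.one_mem _
      · exact mem_FF_of_only_fix hQ hxy (Cfsg.Agent.Lib.Zass.Basic.kernel_smul hZ hu)
          (fun c hc => Cfsg.Agent.Lib.Zass.Basic.kernel_fix hZ hu hu1 hc)
    intro u hu v hv
    exact FF_comm hG (hk u hu) (hk v hv)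
  have h1 := Cfsg.Agent.Lib.Zass.Rows5.feit_abelian hZ hxy hodd hc
  have h2 : Nat.card ↥(stabilizer G x ⊓ stabilizer G y : Subgroup G) = (Ix hG x).ncard :=
    card_DD_triv hQ hxy
  rw [h2] at h1
  have h3 := card_FF_add_one hQ hcard hxy
  rw [Nat.card_eq_fintype_card (α := Pt hG)] at h3
  omega

/-- **`F` consists of the involutions of the point and `1`.** -/
theorem FF_eq (hQ : QTriv hG) (hcard : ∀ x : Pt hG, 2 ≤ (Ix hG x).ncard) {x : Pt hG} {y : Pt hG}
    (hxy : x ≠ y) {f : G} (hf : f ∈ FF hG x) : f = 1 ∨ f ∈ Ix hG x := by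
  classical
  by_contra hcon
  push Not at hcon
  obtain ⟨hf1, hfI⟩ := hcon
  set O : Set G := (fun d => d * f * d⁻¹) '' (DD hG x y : Set G) with hO
  have hOcard : O.ncard = (Ix hG x).ncard := by
    have h1 : ((DD hG x y : Subgroup G) : Set G).ncard = (Ix hG x).ncard := by
      rw [← card_sub_eq]
      exact card_DD_triv hQ hxy
    rw [← h1]
    apply Set.InjOn.ncard_image
    intro a ha b hb hab
    have hab' : a * f * a⁻¹ = b * f * b⁻¹ := hab
    have hc : Commute f (b⁻¹ * a) := by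
      show f * (b⁻¹ * a) = (b⁻¹ * a) * f
      calc f * (b⁻¹ * a) = b⁻¹ * (b * f * b⁻¹) * a := by group
        _ = b⁻¹ * (a * f * a⁻¹) * a := by rw [hab']
        _ = (b⁻¹ * a) * f := by group
    have hmem : b⁻¹ * a ∈ DD hG x y := Subgroup.mul_mem _ (Subgroup.inv_mem _ hb) ha
    by_cases h2 : b⁻¹ * a = 1
    · have h3 : a = b * (b⁻¹ * a) := by group
      rw [h3, h2, mul_one]
    · exact absurd (FF_comm_eq_one hQ hxy hmem h2 hf hc) hf1
  have hOsub : O ⊆ (FF hG x : Set G) := by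
    rintro _ ⟨d, hd, rfl⟩
    exact conj_mem_FF' hG hf ((mem_DD hG).1 hd).1
  have hOI : Disjoint O (Ix hG x) := by
    rw [Set.disjoint_left]
    rintro _ ⟨d, hd, rfl⟩ h2
    apply hfI
    have h3 : Invo (d * f * d⁻¹) := Ix_invo hG h2
    have h4 := h3.conj d⁻¹
    have h5 : d⁻¹ * (d * f * d⁻¹) * d⁻¹⁻¹ = f := by group
    rw [h5] at h4
    exact mem_Ix_of_smul hG h4 (FF_smul hG hf)
  have h1O : (1 : G) ∉ O := by
    rintro ⟨d, hd, h⟩
    apply hf1
    have h3 : d * f * d⁻¹ = 1 := h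
    have h4 : f = d⁻¹ * (d * f * d⁻¹) * d := by group
    rw [h4, h3]
    group
  have h1I : (1 : G) ∉ Ix hG x := fun h => (Ix_invo hG h).1 rfl
  have hsub : insert (1 : G) (O ∪ Ix hG x) ⊆ (FF hG x : Set G) := by
    intro z hz
    rcases hz with rfl | hz | hz
    · exact Subgroup.one_mem _
    · exact hOsub hz
    · exact Ix_le_FF hG hz
  have hc2 : (insert (1 : G) (O ∪ Ix hG x)).ncard = 2 * (Ix hG x).ncard + 1 := by
    rw [Set.ncard_insert_of_notMem (by
      rintro (h | h)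
      · exact h1O h
      · exact h1I h) (Set.toFinite _), Set.ncard_union_eq hOI (Set.toFinite _) (Set.toFinite _),
      hOcard]
    ring
  have hle : 2 * (Ix hG x).ncard + 1 ≤ Nat.card (FF hG x) := by
    rw [← hc2, card_sub_eq]
    exact Set.ncard_le_ncard hsub (Set.toFinite _)
  have heq : Nat.card (FF hG x) = 2 * (Ix hG x).ncard + 1 := le_antisymm (card_FF_le hQ hcard hxy) hle
  -- but `F` has even order
  obtain ⟨i, hi⟩ := exists_mem_Ix hG x
  have h2 : 2 ∣ Nat.card (FF hG x) := by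
    have := Subgroup.orderOf_dvd_natCard (FF hG x) (Ix_le_FF hG hi)
    rwa [orderOf_of_invo (Ix_invo hG hi)] at this
  omega

/-- `|F| = a + 1`. -/
theorem card_FF_eq (hQ : QTriv hG) (hcard : ∀ x : Pt hG, 2 ≤ (Ix hG x).ncard) {x y : Pt hG}
    (hxy : x ≠ y) : Nat.card (FF hG x) = (Ix hG x).ncard + 1 := by
  classical
  have h1 : (FF hG x : Set G) = insert (1 : G) (Ix hG x) := by
    ext z
    constructor
    · intro hz
      rcases FF_eq hQ hcard hxy hz with h | h
      · exact Or.inl h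
      · exact Or.inr h
    · rintro (rfl | h)
      · exact Subgroup.one_mem _
      · exact Ix_le_FF hG h
  rw [card_sub_eq, h1, Set.ncard_insert_of_notMem (fun h => (Ix_invo hG h).1 rfl) (Set.toFinite _)]

/-- Number of points. -/
theorem card_Pt (hQ : QTriv hG) (hcard : ∀ x : Pt hG, 2 ≤ (Ix hG x).ncard) {x y : Pt hG}
    (hxy : x ≠ y) : Nat.card (Pt hG) = (Ix hG x).ncard + 2 := by
  rw [← card_FF_add_one hQ hcard hxy, card_FF_eq hQ hcard hxy]

/-- `D` is transitive on the remaining points. -/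
theorem DD_trans_third (hQ : QTriv hG) (hcard : ∀ x : Pt hG, 2 ≤ (Ix hG x).ncard) {x y z z' : Pt hG}
    (hxy : x ≠ y) (hzx : z ≠ x) (hzy : z ≠ y) (hzx' : z' ≠ x) (hzy' : z' ≠ y) :
    ∃ d ∈ DD hG x y, d • z = z' := by
  classical
  set S : Set (Pt hG) := {w | w ≠ x ∧ w ≠ y} with hS
  have hScard : S.ncard = (Ix hG x).ncard := by
    have h1 : S = ({x, y} : Set (Pt hG))ᶜ := by
      ext w
      simp [hS]
    have h2 := Set.ncard_add_ncard_compl ({x, y} : Set (Pt hG))
    rw [← h1, Set.ncard_pair hxy, card_Pt hQ hcard hxy] at h2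
    omega
  have himg : (fun d : G => d • z) '' (DD hG x y : Set G) = S := by
    apply Set.eq_of_subset_of_ncard_le
    · rintro _ ⟨d, hd, rfl⟩
      have hd' := (mem_DD hG).1 hd
      constructor
      · intro h
        apply hzx
        rw [← hd'.1] at h
        exact smul_left_cancel _ h
      · intro h
        apply hzy
        rw [← hd'.2] at h
        exact smul_left_cancel _ h
    · have h3 : ((fun d : G => d • z) '' (DD hG x y : Set G)).ncard = (DD hG x y : Set G).ncard := by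
        apply Set.InjOn.ncard_image
        intro a ha b hb hab
        have hab' : a • z = b • z := hab
        have hmem : b⁻¹ * a ∈ DD hG x y := Subgroup.mul_mem _ (Subgroup.inv_mem _ hb) ha
        by_contra hne
        have h4 : b⁻¹ * a ≠ 1 := by
          intro h5
          apply hne
          have h6 : a = b * (b⁻¹ * a) := by group
          rw [h6, h5, mul_one]
        apply fix_two hQ hxy hmem h4 hzx hzy
        rw [mul_smul, hab', inv_smul_smul]
      rw [h3, ← card_sub_eq, card_DD_triv hQ hxy, hScard]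
    · exact Set.toFinite _
  have h5 : z' ∈ S := ⟨hzx', hzy'⟩
  rw [← himg] at h5
  obtain ⟨d, hd, h6⟩ := h5
  exact ⟨d, hd, h6⟩

/-- The identification with `SL(2, F)`. -/
theorem exists_sl2 (hQ : QTriv hG) (hcard : ∀ x : Pt hG, 2 ≤ (Ix hG x).ncard) {x y : Pt hG}
    (hxy : x ≠ y) :
    ∃ (F : Type) (_ : Field F) (_ : Fintype F), CharP F 2 ∧ 4 ≤ Fintype.card F ∧
      Nonempty (G ≃* Matrix.SpecialLinearGroup (Fin 2) F) := by
  classical
  have hfa := faithful hQ hxy
  have := Fintype.ofFinite (Pt hG)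
  have hcardP : Fintype.card (Pt hG) = (Ix hG x).ncard + 2 := by
    rw [← Nat.card_eq_fintype_card, card_Pt hQ hcard hxy]
  have hodda : Odd (Ix hG x).ncard := by
    have := odd_card_DD hxy
    rwa [card_DD_triv hQ hxy] at this
  have h2 := hcard x
  have htr : ∀ a b c a' b' c' : Pt hG, a ≠ b → a ≠ c → b ≠ c → a' ≠ b' → a' ≠ c' → b' ≠ c' →
      ∃ g : G, g • a = a' ∧ g • b = b' ∧ g • c = c' := by
    intro a b c a' b' c' hab hac hbc hab' hac' hbc'
    obtain ⟨g, h1, h3⟩ := two_trans hQ hcard hab hab'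
    have h4 : g • c ≠ a' := by
      intro h
      rw [← h1] at h
      exact hac (smul_left_cancel _ h).symm
    have h5 : g • c ≠ b' := by
      intro h
      rw [← h3] at h
      exact hbc (smul_left_cancel _ h).symm
    obtain ⟨d, hd, h6⟩ := DD_trans_third hQ hcard hab' h4 h5 (Ne.symm hac') (Ne.symm hbc')
    have hd' := (mem_DD hG).1 hd
    refine ⟨d * g, ?_, ?_, ?_⟩
    · rw [mul_smul, h1, hd'.1]
    · rw [mul_smul, h3, hd'.2]
    · rw [mul_smul, h6]
  have hfix : ∀ (g : G) (a b c : Pt hG), a ≠ b → a ≠ c → b ≠ c → g • a = a → g • b = b → g • c = c →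
      g = 1 := by
    intro g a b c hab hac hbc ha hb hc
    exact eq_one_of_three hQ hab hbc hac ha hb hc
  have hoddP : Odd (Fintype.card (Pt hG)) := by
    rw [hcardP]
    exact hodda.add_even (by norm_num)
  obtain ⟨F, iF, iK, hF, ⟨e⟩⟩ := Cfsg.Agent.S0727.main_theorem (G := G) (α := Pt hG) htr hfix hoddP
    (by omega)
  have hFcard : Fintype.card F = (Ix hG x).ncard + 1 := by omega
  have hchar : CharP F 2 := by
    obtain ⟨n, hp, hn⟩ := FiniteField.card F (ringChar F)
    have h3 : 2 ∣ Fintype.card F := by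
      rw [hFcard]
      exact (hodda.add_odd odd_one).two_dvd
    rw [hn] at h3
    have h4 : 2 = ringChar F := by
      have := (Nat.prime_dvd_prime_iff_eq Nat.prime_two hp).1
        (Nat.prime_two.dvd_of_dvd_pow h3)
      exact this
    have h5 := ringChar.charP F
    rwa [← h4] at h5
  have h4' : 4 ≤ Fintype.card F := by
    obtain ⟨m, hm⟩ := hodda
    omega
  obtain ⟨e2⟩ := sl2_equiv_pgl (F := F)
  exact ⟨F, iF, iK, hchar, h4', ⟨e.trans e2.symm⟩⟩

/-- **No subgroup without involutions is transitive on the involutions.** -/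
theorem no_odd_trans (hQ : QTriv hG) {x y : Pt hG} (hxy : x ≠ y)
    (hcard : ∀ x : Pt hG, 2 ≤ (Ix hG x).ncard) (R : Subgroup G) (hR : ∀ r ∈ R, ¬ Invo r)
    (htr : ∀ s t : G, Invo s → Invo t → ∃ r ∈ R, r * s * r⁻¹ = t) : False := by
  have hodd : ∀ r ∈ R, Odd (orderOf r) := by
    intro r hr
    by_contra h
    obtain ⟨n, hn⟩ := exists_invo_pow h
    exact hR _ (Subgroup.pow_mem _ hr n) hn
  -- elements of `R` in some `F` are trivial
  have hRF : ∀ {z : Pt hG} {w : Pt hG} (_ : z ≠ w) {r : G}, r ∈ R → r ∈ FF hG z → r = 1 := by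
    intro z w hzw r hr hrF
    rcases FF_eq hQ hcard hzw hrF with h | h
    · exact h
    · exact absurd (Ix_invo hG h) (hR r hr)
  have hcommR : ∀ {z w : Pt hG} (_ : z ≠ w) {a b : G}, a ∈ R → b ∈ R → a • z = z → b • z = z →
      Commute a b := by
    intro z w hzw a b ha hb haz hbz
    have h1 := commutator_stab_mem hQ hzw haz hbz
    have h2 : a * b * a⁻¹ * b⁻¹ ∈ R :=
      Subgroup.mul_mem _ (Subgroup.mul_mem _ (Subgroup.mul_mem _ ha hb) (Subgroup.inv_mem _ ha))
        (Subgroup.inv_mem _ hb)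
    have h3 := hRF hzw h2 h1
    show a * b = b * a
    have h4 : a * b * a⁻¹ = b := by
      rw [mul_inv_eq_one] at h3
      exact h3
    calc a * b = a * b * a⁻¹ * a := by group
      _ = b * a := by rw [h4]
  -- a non-identity element of `R` at `x`
  obtain ⟨i, hi⟩ := exists_mem_Ix hG x
  obtain ⟨i', hi', hne⟩ : ∃ i' ∈ Ix hG x, i' ≠ i :=
    Set.exists_ne_of_one_lt_ncard (hcard x) i
  obtain ⟨r₁, hr₁, hr₁i⟩ := htr i i' (Ix_invo hG hi) (Ix_invo hG hi')
  have hr₁x : r₁ • x = x := smul_eq_of_conj_mem hG hi (by rw [hr₁i]; exact hi')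
  have hr₁1 : r₁ ≠ 1 := by
    rintro rfl
    apply hne
    rw [← hr₁i]
    group
  have hr₁F : r₁ ∉ FF hG x := fun h => hr₁1 (hRF hxy hr₁ h)
  obtain ⟨f₁, hf₁, hfix⟩ := exists_fix hQ hxy hr₁x hr₁F
  set y₁ := f₁ • y with hy₁
  have hxy₁ : x ≠ y₁ := Ne.symm (smul_ne_of_FF hxy hf₁)
  have hr₁D : r₁ ∈ DD hG x y₁ := (mem_DD hG).2 ⟨hr₁x, hfix⟩
  -- `r₀` maps `x` to `y₁`
  obtain ⟨j, hj⟩ := exists_mem_Ix hG y₁
  obtain ⟨r₀, hr₀, hr₀i⟩ := htr i j (Ix_invo hG hi) (Ix_invo hG hj)
  have hr₀x : r₀ • x = y₁ := smul_eq_of_conj_mem hG hi (by rw [hr₀i]; exact hj)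
  set r₂ := r₀ * r₁ * r₀⁻¹ with hr₂
  have hr₂R : r₂ ∈ R := Subgroup.mul_mem _ (Subgroup.mul_mem _ hr₀ hr₁) (Subgroup.inv_mem _ hr₀)
  have hr₂1 : r₂ ≠ 1 := by
    intro h
    apply hr₁1
    have h1 : r₁ = r₀⁻¹ * r₂ * r₀ := by rw [hr₂]; group
    rw [h1, h]
    group
  have hr₂y : r₂ • y₁ = y₁ := by
    rw [← hr₀x, hr₂, mul_smul, mul_smul, inv_smul_smul, hr₁x]
  have hc : Commute r₂ r₁ := hcommR (Ne.symm hxy₁) hr₂R hr₁ hr₂y hfix
  have hr₂x : r₂ • x = x := by
    by_contra h
    have h1 : r₂ • x ≠ y₁ := by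
      intro h2
      rw [← hr₂y] at h2
      exact hxy₁ (smul_left_cancel _ h2)
    apply fix_two hQ hxy₁ hr₁D hr₁1 h h1
    rw [← mul_smul, ← (hc : r₂ * r₁ = r₁ * r₂), mul_smul, hr₁x]
  have hr₀y : r₀ • y₁ = x := by
    by_contra h
    have h1 : r₀ • y₁ ≠ y₁ := by
      intro h2
      have h3 : r₀ • y₁ = r₀ • x := by rw [h2, hr₀x]
      exact hxy₁ (smul_left_cancel _ h3).symm
    apply fix_two hQ hxy₁ ((mem_DD hG).2 ⟨hr₂x, hr₂y⟩) hr₂1 h h1
    rw [hr₂, mul_smul, mul_smul, inv_smul_smul, hfix]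
  -- `r₀` has odd order and swaps two points
  obtain ⟨l, hl⟩ := hodd r₀ hr₀
  have h6 : ∀ n : ℕ, r₀ ^ (2 * n) • x = x := by
    intro n
    induction n with
    | zero => simp
    | succ n ih =>
      have h7 : r₀ ^ (2 * (n + 1)) = r₀ * r₀ * r₀ ^ (2 * n) := by
        rw [mul_add, mul_one, pow_add, pow_two, ← pow_two, ← pow_add, ← pow_add, add_comm]
      rw [h7, mul_smul, mul_smul, ih, hr₀x, hr₀y]
  have h8 : r₀ ^ (2 * l + 1) = 1 := by rw [← hl, pow_orderOf_eq_one]
  apply hxy₁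
  have h9 : r₀ ^ (2 * l + 1) • x = y₁ := by
    rw [pow_succ', mul_smul, h6, hr₀x]
  rw [h8, one_smul] at h9
  exact h9

/-- The element-level triviality hypothesis. -/
def QTriv' (G : Type u) [Group G] : Prop :=
  ∀ i j g : G, Invo i → Invo j → ¬ Commute i j → Commute g i → Commute (g * j * g⁻¹) j → g = 1

theorem qTriv_of (hQ : QTriv' G) : QTriv hG := by
  intro x y hxy g hg hgy
  obtain ⟨i, hi⟩ := exists_mem_Ix hG x
  obtain ⟨j, hj⟩ := exists_mem_Ix hG y
  exact hQ i j g (Ix_invo hG hi) (Ix_invo hG hj) (not_comm_of_ne hG hxy hi hj)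
    ((mem_FF hG hi).1 hg) (Ix_comm hG (conj_mem_Ix_of_fix hG hgy hj) hj)

theorem ncard_of_comm (hG : ACI G) {s t : G} (hs : Invo s) (ht : Invo t) (hst : s ≠ t)
    (hc : Commute s t) (x : Pt hG) : 2 ≤ (Ix hG x).ncard := by
  rw [Ix_ncard_eq hG x (pt hG s hs)]
  have h1 : s ∈ Ix hG (pt hG s hs) := pt_mem_Ix hG hs
  have h2 : t ∈ Ix hG (pt hG s hs) := mem_Ix_of_comm hG h1 ht hc.symm
  have h3 : ({s, t} : Set G) ⊆ Ix hG (pt hG s hs) := by
    rintro z (rfl | rfl)
    · exact h1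
    · exact h2
  have h4 := Set.ncard_le_ncard h3 (Set.toFinite _)
  rwa [Set.ncard_pair hst] at h4

/-- **The group in the trivial case.** -/
theorem triv_main (hG : ACI G) (hQ : QTriv' G) {a b : G} (ha : Invo a) (hb : Invo b)
    (hab : ¬ Commute a b) {s t : G} (hs : Invo s) (ht : Invo t) (hst : s ≠ t) (hc : Commute s t) :
    (∀ i g : G, Invo i → Commute g i → g = 1 ∨ Invo g) ∧
    (∀ R : Subgroup G, (∀ r ∈ R, ¬ Invo r) →
      ¬ ∀ s t : G, Invo s → Invo t → ∃ r ∈ R, r * s * r⁻¹ = t) ∧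
    commutator G = ⊤ ∧
    ∃ (F : Type) (_ : Field F) (_ : Fintype F), CharP F 2 ∧ 4 ≤ Fintype.card F ∧
      Nonempty (G ≃* Matrix.SpecialLinearGroup (Fin 2) F) := by
  have hQ' : QTriv hG := qTriv_of hQ
  have hcard := ncard_of_comm hG hs ht hst hc
  have hxy : pt hG a ha ≠ pt hG b hb := by
    intro h
    exact hab ((pt_eq_iff hG ha hb).1 h)
  refine ⟨?_, ?_, commutator_eq_top hQ' hcard hxy, exists_sl2 hQ' hcard hxy⟩
  · intro i g hi hg
    have hi' := pt_mem_Ix hG hi
    obtain ⟨z, hz⟩ : ∃ z : Pt hG, pt hG i hi ≠ z := by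
      by_cases h : pt hG i hi = pt hG a ha
      · exact ⟨pt hG b hb, by rw [h]; exact hxy⟩
      · exact ⟨pt hG a ha, h⟩
    rcases FF_eq hQ' hcard hz ((mem_FF hG hi').2 hg) with h | h
    · exact Or.inl h
    · exact Or.inr (Ix_invo hG h)
  · intro R hR htr
    exact no_odd_trans hQ' hxy hcard R hR htr

end

end Cfsg.Agent.Lib.Coprime.InvAb
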